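import Mathlib
import Cfsg.Prelude.Def_Classical

/-!
# The special unitary group of dimension six over four elements, on codes
-/

set_option autoImplicit false
set_option maxRecDepth 8000

namespace Cfsg.Lib.SUSixU43

open Cfsg Matrix

/-- The field with four elements. -/
abbrev R4 := QuadraticAlgebra (ZMod 2) 1 1

instance : Fintype R4 := Fintype.ofEquiv _ (QuadraticAlgebra.equivProd (1 : ZMod 2) 1).symm

instance : Fact (∀ r : ZMod 2, r ^ 2 ≠ 1 + 1 * r) := ⟨by decide⟩

theorem card_r4 : Fintype.card R4 = 4 := by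
  rw [Fintype.card_congr (QuadraticAlgebra.equivProd (1 : ZMod 2) 1), Fintype.card_prod, ZMod.card]

/-- The element with code `c`. -/
def el (c : ℕ) : R4 := ⟨(c % 2 : ℕ), (c / 2 % 2 : ℕ)⟩

/-- The code of an element. -/
def code (x : R4) : ℕ := x.re.val + 2 * x.im.val

theorem code_el : ∀ x : R4, code x < 4 ∧ el (code x) = x := by decide +kernel

theorem el_mod (c : ℕ) : el (c % 4) = el c := by
  simp only [el, show c % 4 % 2 = c % 2 by omega, show c % 4 / 2 % 2 = c / 2 % 2 by omega]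

/-- The sum of codes. -/
def adC (a b : ℕ) : ℕ := Nat.xor (a % 4) (b % 4)

/-- The product of codes, from a packed table. -/
def muC (a b : ℕ) : ℕ := 2625168384 / 4 ^ (4 * (a % 4) + b % 4) % 4

/-- The conjugate of a code. -/
def cjC (a : ℕ) : ℕ := muC a a

theorem el_mu4 : ∀ a < 4, ∀ b < 4, el (muC a b) = el a * el b ∧ el (adC a b) = el a + el b := by decide +kernel

theorem el_mu (a b : ℕ) : el (muC a b) = el a * el b := by
  rw [← el_mod a, ← el_mod b, ← (el_mu4 _ (Nat.mod_lt _ (by norm_num)) _ (Nat.mod_lt _ (by norm_num))).1]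
  congr 1
  simp only [muC, Nat.mod_mod]

theorem el_ad (a b : ℕ) : el (adC a b) = el a + el b := by
  rw [← el_mod a, ← el_mod b, ← (el_mu4 _ (Nat.mod_lt _ (by norm_num)) _ (Nat.mod_lt _ (by norm_num))).2]
  congr 1
  simp only [adC, Nat.mod_mod]

theorem el_cj (a : ℕ) : el (cjC a) = el a ^ 2 := by rw [cjC, el_mu, sq]

theorem el_eq_iff (a b : ℕ) : el a = el b ↔ a % 4 = b % 4 := by
  have h : ∀ x < 4, ∀ y < 4, el x = el y → x = y := by decide +kernel
  exact ⟨fun e => h _ (Nat.mod_lt _ (by norm_num)) _ (Nat.mod_lt _ (by norm_num)) (by rw [el_mod, el_mod, e]),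
    fun e => by rw [← el_mod a, e, el_mod]⟩

theorem el_eq_zero (a : ℕ) : el a = 0 ↔ a % 4 = 0 := by
  have e : (0 : R4) = el 0 := by decide
  rw [e, el_eq_iff]

theorem add_sq : ∀ x y : R4, (x + y) ^ 2 = x ^ 2 + y ^ 2 := by decide +kernel

theorem sq_sq : ∀ x : R4, (x ^ 2) ^ 2 = x := by decide +kernel

/-- Squaring. -/
def frob : R4 →+* R4 where
  toFun x := x ^ 2
  map_one' := one_pow 2
  map_mul' _ _ := mul_pow _ _ 2
  map_zero' := by simp
  map_add' := add_sq

theorem frob_map (M : Matrix (Fin 6) (Fin 6) R4) : M.map frob = M.map fun x => x ^ 2 := rfl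

/-- An entry. -/
def mget (m i j : ℕ) : ℕ := m / 4 ^ (6 * i + j) % 4

/-- The matrix of codes. -/
def mat (m : ℕ) : Matrix (Fin 6) (Fin 6) R4 := Matrix.of fun i j => el (mget m i j)

theorem mat_apply (m : ℕ) (i j : Fin 6) : mat m i j = el (mget m i j) := rfl

/-- Passing an evaluated number. -/
noncomputable def fN {α : Type} (n : ℕ) (f : ℕ → α) : α := Nat.rec (f 0) (fun m _ => f (Nat.add m 1)) n

theorem fN_eq {α : Type} (n : ℕ) (f : ℕ → α) : fN n f = f n := by cases n <;> rfl

/-- Packing of digits. -/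
def pack : ℕ → (ℕ → ℕ) → ℕ
  | 0, _ => 0
  | n + 1, f => f 0 % 4 + 4 * pack n fun k => f (k + 1)

theorem pack_digit : ∀ (n : ℕ) (f : ℕ → ℕ) (k : ℕ), k < n → pack n f / 4 ^ k % 4 = f k % 4
  | n + 1, f, 0, _ => by
    rw [pack, pow_zero, Nat.div_one, Nat.add_mul_mod_self_left, Nat.mod_mod]
  | n + 1, f, k + 1, h => by
    rw [pack, pow_succ', ← Nat.div_div_eq_div_mul, Nat.add_mul_div_left _ _ (by norm_num),
      Nat.div_eq_of_lt (Nat.mod_lt _ (by norm_num)), zero_add, pack_digit n _ k (by omega)]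

/-- A matrix from a function. -/
def ofF (f : ℕ → ℕ → ℕ) : ℕ := pack 36 fun k => f (k / 6) (k % 6)

theorem mget_ofF (f : ℕ → ℕ → ℕ) (i j : Fin 6) : mget (ofF f) i j = f i j % 4 := by
  rw [mget, ofF, pack_digit 36 _ _ (by omega), show (6 * (i : ℕ) + (j : ℕ)) / 6 = i by omega,
    show (6 * (i : ℕ) + (j : ℕ)) % 6 = j by omega]

/-- A sum of six products. -/
def dot6 (f g : ℕ → ℕ) : ℕ :=
  adC (adC (adC (muC (f 0) (g 0)) (muC (f 1) (g 1))) (adC (muC (f 2) (g 2)) (muC (f 3) (g 3))))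
    (adC (muC (f 4) (g 4)) (muC (f 5) (g 5)))

theorem el_dot6 (f g : ℕ → ℕ) : el (dot6 f g) = ∑ k : Fin 6, el (f k) * el (g k) := by
  simp only [dot6, el_ad, el_mu, Fin.sum_univ_six]
  show _ = el (f 0) * el (g 0) + el (f 1) * el (g 1) + el (f 2) * el (g 2) + el (f 3) * el (g 3) +
    el (f 4) * el (g 4) + el (f 5) * el (g 5)
  ring

/-- The product of matrices of codes. -/
noncomputable def mulM (a b : ℕ) : ℕ :=
  fN a fun a => fN b fun b => ofF fun i j => dot6 (mget a i) (fun k => mget b k j)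

theorem mat_mulM (a b : ℕ) : mat (mulM a b) = mat a * mat b := by
  ext i j : 1
  rw [mat_apply, mulM, fN_eq, fN_eq, mget_ofF, el_mod, el_dot6, Matrix.mul_apply]
  rfl

/-- The conjugate transpose of a matrix of codes. -/
noncomputable def starM (a : ℕ) : ℕ := fN a fun a => ofF fun i j => cjC (mget a j i)

theorem mat_starM (a : ℕ) : mat (starM a) = (mat a).transpose.map (fun x => x ^ 2) := by
  ext i j : 1
  rw [mat_apply, starM, fN_eq, mget_ofF, el_mod, el_cj]
  rfl

/-- The identity. -/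
def oneM : ℕ := ofF fun i j => bif Nat.beq i j then 1 else 0

theorem mat_oneM : mat oneM = 1 := by decide +kernel

/-- Equality of the entries of two matrices of codes. -/
noncomputable def sameM (a b : ℕ) : Bool := fN a fun a => fN b fun b => Nat.beq (a % 4 ^ 36) (b % 4 ^ 36)

theorem digits_ext : ∀ (n a b : ℕ), (∀ k < n, a / 4 ^ k % 4 = b / 4 ^ k % 4) → a % 4 ^ n = b % 4 ^ n
  | 0, a, b, _ => by simp [Nat.mod_one]
  | n + 1, a, b, h => by
    rw [Nat.mod_pow_succ, Nat.mod_pow_succ, digits_ext n a b fun k hk => h k (by omega), h n (by omega)]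

theorem sameM_iff (a b : ℕ) : sameM a b = true ↔ mat a = mat b := by
  rw [sameM, fN_eq, fN_eq, Nat.beq_eq]
  simp only [← Matrix.ext_iff, mat_apply, el_eq_iff, mget, Nat.mod_mod]
  constructor
  · intro h i j
    have key : ∀ c k, k < 36 → c % 4 ^ 36 / 4 ^ k % 4 = c / 4 ^ k % 4 := fun c k hk => by
      rw [show 36 = k + (36 - k) by omega, pow_add, Nat.mod_mul_right_div_self,
        Nat.mod_mod_of_dvd _ (dvd_pow_self 4 (by omega))]
    rw [← key a _ (by omega), ← key b _ (by omega), h]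
  · intro h
    refine digits_ext 36 a b fun k hk => ?_
    have := h ⟨k / 6, by omega⟩ ⟨k % 6, by omega⟩
    rwa [show 6 * (k / 6) + k % 6 = k by omega] at this

/-- The product of a list of matrices of codes. -/
noncomputable def prodM : List (ℕ) → ℕ
  | [] => oneM
  | a :: l => mulM a (prodM l)

theorem mat_prodM : ∀ l : List (ℕ), mat (prodM l) = (l.map mat).prod
  | [] => mat_oneM
  | a :: l => by rw [prodM, mat_mulM, mat_prodM l, List.map_cons, List.prod_cons]

/-- The group. -/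
abbrev G6 : Type := ↥(SU 6 R4 2)

/-- The matrix of an element. -/
noncomputable def mm : G6 →* Matrix (Fin 6) (Fin 6) R4 := (slToMat 6 R4).comp (SU 6 R4 2).subtype

theorem mm_injective : Function.Injective mm := fun _ _ h => Subtype.ext (Subtype.ext h)

theorem herm_of {M : Matrix (Fin 6) (Fin 6) R4} (h : M.transpose * M.map (fun x => x ^ 2) = 1) (u v : Fin 6 → R4) :
    hermForm 6 R4 2 (M *ᵥ u) (M *ᵥ v) = hermForm 6 R4 2 u v := by
  have hm : (fun i => (M *ᵥ v) i ^ 2) = M.map (fun x => x ^ 2) *ᵥ fun i => v i ^ 2 := by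
    ext1 i
    simp only [Matrix.mulVec, dotProduct, Fin.sum_univ_six, Matrix.map_apply, add_sq, mul_pow]
  show (M *ᵥ u) ⬝ᵥ (fun i => (M *ᵥ v) i ^ 2) = u ⬝ᵥ fun i => v i ^ 2
  rw [hm, Matrix.dotProduct_mulVec, Matrix.vecMul_mulVec, h, Matrix.vecMul_one]

/-- A sum of codes. -/
def sumC : ℕ → (ℕ → ℕ) → ℕ
  | 0, _ => 0
  | n + 1, f => adC (f 0) (sumC n fun k => f (k + 1))

theorem el_sumC : ∀ (n : ℕ) (f : ℕ → ℕ), el (sumC n f) = ∑ k : Fin n, el (f k)
  | 0, f => by simp only [sumC, Finset.univ_eq_empty, Finset.sum_empty]; decide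
  | n + 1, f => by
    rw [sumC, el_ad, el_sumC n, Fin.sum_univ_succ]
    rfl

/-- The determinant on codes. -/
def detC : ℕ → (ℕ → ℕ → ℕ) → ℕ
  | 0, _ => 1
  | n + 1, f => sumC (n + 1) fun j =>
      muC (f 0 j) (detC n fun i k => f (i + 1) (bif Nat.blt k j then k else k + 1))

theorem el_detC : ∀ (n : ℕ) (f : ℕ → ℕ → ℕ),
    el (detC n f) = (Matrix.of fun i j : Fin n => el (f i j)).det
  | 0, f => by simp only [detC, Matrix.det_fin_zero]; decide
  | n + 1, f => by
    rw [detC, el_sumC, Matrix.det_succ_row_zero]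
    refine Finset.sum_congr rfl fun j _ => ?_
    have h2 : (-1 : R4) = 1 := by decide
    rw [el_mu, el_detC n, h2, one_pow, one_mul]
    refine congrArg₂ (· * ·) rfl (congrArg Matrix.det (Matrix.ext fun i k => ?_))
    simp only [Matrix.submatrix_apply, Matrix.of_apply, Fin.val_succ]
    · congr 2
      rcases lt_or_ge (k : ℕ) (j : ℕ) with h | h
      · rw [Fin.succAbove_of_castSucc_lt _ _ h, show Nat.blt (k : ℕ) (j : ℕ) = true by
          simp only [Nat.blt, Nat.ble_eq]; omega]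
        rfl
      · rw [Fin.succAbove_of_le_castSucc _ _ h, show Nat.blt (k : ℕ) (j : ℕ) = false by
          simp only [Nat.blt, Bool.eq_false_iff, ne_eq, Nat.ble_eq]; omega]
        rfl

/-- The codes give an element of the group. -/
noncomputable def suB (m : ℕ) : Bool :=
  Nat.beq (detC 6 (mget m)) 1 && sameM (mulM (starM m) m) oneM

theorem exists_of_suB {m : ℕ} (h : suB m = true) : ∃ g : G6, mm g = mat m := by
  simp only [suB, Bool.and_eq_true, Nat.beq_eq, sameM_iff, mat_mulM, mat_starM, mat_oneM] at h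
  have hd : (mat m).det = 1 := by
    show (Matrix.of fun i j : Fin 6 => el (mget m i j)).det = 1
    rw [← el_detC, h.1]
    decide
  refine ⟨⟨⟨mat m, hd⟩, herm_of ?_⟩, rfl⟩
  have hM : ∀ M : Matrix (Fin 6) (Fin 6) R4, frob.mapMatrix (M.map fun x => x ^ 2) = M := fun M => by
    ext i j : 1
    exact sq_sq _
  have e := congrArg frob.mapMatrix h.2
  rw [map_mul, map_one, hM] at e
  exact e

/-- The codes of an element. -/
noncomputable def cd (g : G6) : ℕ :=
  ofF fun i j => if h : i < 6 ∧ j < 6 then code (mm g ⟨i, h.1⟩ ⟨j, h.2⟩) else 0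

theorem mget_cd (g : G6) (i j : Fin 6) : mget (cd g) i j = code (mm g i j) := by
  rw [cd, mget_ofF, dif_pos ⟨i.isLt, j.isLt⟩, Nat.mod_eq_of_lt (code_el _).1]

theorem mat_cd (g : G6) : mat (cd g) = mm g := by
  ext i j : 1
  rw [mat_apply, mget_cd]
  exact (code_el _).2

theorem star_mul_self (g : G6) : (mm g).transpose.map (fun x => x ^ 2) * mm g = 1 := by
  ext i j : 1
  have h : hermForm 6 R4 2 (mm g *ᵥ Pi.single j 1) (mm g *ᵥ Pi.single i 1) =
      hermForm 6 R4 2 (Pi.single j 1) (Pi.single i 1) := g.2 _ _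
  simp only [hermForm, Matrix.mulVec_single_one, Matrix.col_apply] at h
  rw [Matrix.mul_apply]
  simp only [Matrix.map_apply, Matrix.transpose_apply]
  rw [Finset.sum_congr rfl fun k _ => mul_comm _ _, h,
    Finset.sum_eq_single j (fun l _ hl => by simp [hl]) (by simp), Pi.single_eq_same, one_mul, Matrix.one_apply]
  rcases eq_or_ne i j with rfl | hij
  · simp
  · simp [hij]

theorem mm_inv (g : G6) : mm g⁻¹ = (mm g).transpose.map (fun x => x ^ 2) :=
  calc mm g⁻¹ = ((mm g).transpose.map (fun x => x ^ 2) * mm g) * mm g⁻¹ := by rw [star_mul_self, one_mul]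
    _ = _ := by rw [Matrix.mul_assoc, ← map_mul, mul_inv_cancel, map_one, mul_one]

theorem mm_inv_of {g : G6} {m : ℕ} (h : mm g = mat m) : mm g⁻¹ = mat (starM m) := by
  rw [mm_inv, h, mat_starM]

end Cfsg.Lib.SUSixU43
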