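import Cfsg.Agent.Lib.SUSixU43.Mono
import Cfsg.Agent.Lib.SUSixU43.ModelData
import Cfsg.Agent.Lib.PermAut.Basic

/-! Checks of the certificates for the models. -/

set_option autoImplicit false
set_option maxRecDepth 100000

namespace Cfsg.Lib.SUSixU43

open Cfsg.Lib.PermAut

/-- The matrix of a node. -/
def nodeM (c i : ℕ) : ℕ := (nodeMats.getD c []).getD i 0

/-- The generator with an index. -/
def genM (c k : ℕ) : ℕ := bif Nat.beq k 0 then xMats.getD c 0 else yMats.getD c 0

/-- The table of a generator. -/
def genP (k : ℕ) : ℕ := bif Nat.beq k 0 then pXT.1 else pYT.1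

/-- The powers of the scalar. -/
noncomputable def zPow (s : ℕ) : ℕ := prodM (List.replicate (s - 1) zMat)

/-- The even monomial letters. -/
noncomputable def evenM (c k : ℕ) : ℕ :=
  bif Nat.blt k 8 then (evenMats.getD c []).getD k 0 else starM ((evenMats.getD c []).getD (k - 8) 0)

/-- The letters of the monomial words. -/
noncomputable def letM (c k : ℕ) : ℕ :=
  bif Nat.blt k 16 then evenM c k
  else mulM (mulM (farMats.getD c 0) (evenM c (k - 16))) (starM (farMats.getD c 0))

/-- The letters of the words in the generators. -/
noncomputable def genL (c k : ℕ) : ℕ := bif Nat.blt k 2 then genM c k else starM (genM c (k - 2))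

/-- The value of a word. -/
noncomputable def wordM (f : ℕ → ℕ) (w : List ℕ × ℕ) : ℕ := mulM (prodM (w.1.map f)) (zPow w.2)

/-- The matrices are in the group. -/
noncomputable def baseB (c : ℕ) : Bool :=
  suB (genM c 0) && suB (genM c 1) && suB zMat && suB (farMats.getD c 0) &&
    ((List.range 8).all fun k => suB ((evenMats.getD c []).getD k 0)) &&
    ((List.range 2).all fun k => suB ((symMats.getD c []).getD k 0))

/-- The nodes follow the tree. -/
noncomputable def treeOkB (c : ℕ) : Bool :=
  sameM (nodeM c 0) oneM && Nat.beq orbitTree.length 111 &&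
    (List.range 111).all fun t => Nat.ble (orbitTree.getD t (0, 0)).1 t &&
      Nat.blt (orbitTree.getD t (0, 0)).2 2 &&
      sameM (nodeM c (t + 1)) (mulM (genM c (orbitTree.getD t (0, 0)).2) (nodeM c (orbitTree.getD t (0, 0)).1)) &&
      Nat.beq (ent 7 (genP (orbitTree.getD t (0, 0)).2) (orbitTree.getD t (0, 0)).1) (t + 1)

/-- The generators move the nodes as the tables say. -/
noncomputable def moveB (c k : ℕ) : Bool :=
  (List.range 112).all fun i =>
    monB (mulM (mulM (starM (nodeM c (ent 7 (genP k) i))) (genM c k)) (nodeM c i))

/-- The other nodes differ from the first. -/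
noncomputable def farB (c : ℕ) : Bool := (List.range 111).all fun i => !monB (nodeM c (i + 1))

/-- The exponent vector with an index. -/
def expAt (e0 e1 e2 e3 e4 : ℕ) : ℕ :=
  ofF fun i j => bif Nat.beq i j then
    [e0 + 1, e1 + 1, e2 + 1, e3 + 1, e4 + 1, (3 * 5 - (e0 + e1 + e2 + e3 + e4)) % 3 + 1].getD i 0 else 0

/-- No diagonal element other than a scalar fixes the witness. -/
noncomputable def kerB (c : ℕ) : Bool :=
  (List.range 243).all fun e =>
    let a := expAt (e % 3) (e / 3 % 3) (e / 9 % 3) (e / 27 % 3) (e / 81 % 3)
    (sameM a (zPow 1) || sameM a (zPow 2) || sameM a (zPow 3)) ||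
      kerWit.any fun i => !monB (mulM (mulM (starM (nodeM c i)) a) (nodeM c i))

/-- The words. -/
noncomputable def wordsB (c : ℕ) : Bool :=
  sameM (genM c 0) (wordM (letM c) xWord) && sameM (genM c 1) (wordM (letM c) yWord) &&
    ((List.range 5).all fun k => sameM ((evenMats.getD c []).getD k 0) (wordM (genL c) (tWords.getD k ([], 0)))) &&
    ((List.range 4).all fun k =>
      sameM (mulM (mulM ((symMats.getD c []).getD (k / 2) 0) (genM c (k % 2))) (starM ((symMats.getD c []).getD (k / 2) 0)))
        (wordM (genL c) (nWords.getD k ([], 0)))) &&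
    ((xWord.1 ++ yWord.1).all fun k => Nat.blt k 32) &&
    ((tWords ++ nWords).all fun w => w.1.all fun k => Nat.blt k 4)

/-- The first generator of one model leaves the orbit of another. -/
noncomputable def diffB (a b : ℕ) : Bool :=
  (List.range 112).all fun i => !monB (mulM (starM (nodeM b i)) (genM a 0))

theorem base_ok : (List.range 3).all baseB = true := by decide +kernel

theorem tree_ok : (List.range 3).all treeOkB = true := by decide +kernel

theorem move_ok : ((List.range 3).all fun c => moveB c 0 && moveB c 1) = true := by decide +kernel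

theorem far_ok : (List.range 3).all farB = true := by decide +kernel

theorem ker_ok : (List.range 3).all kerB = true := by decide +kernel

theorem words_ok : (List.range 3).all wordsB = true := by decide +kernel

theorem diff_ok : (diffB 0 1 && diffB 0 2 && diffB 1 2) = true := by decide +kernel

theorem perm_tables : (invPairOk 7 112 pXT.1 pXT.2 && invPairOk 7 112 pYT.1 pYT.2) = true := by decide +kernel

end Cfsg.Lib.SUSixU43
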