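import Cfsg.Agent.Lib.SUSixU43.ModelCheck

/-! The three models of the triple cover of PSU(4,3) in SU(6,2). -/

set_option autoImplicit false
set_option maxRecDepth 20000

namespace Cfsg.Lib.SUSixU43

open Cfsg Matrix Equiv Cfsg.Lib.PermAut

instance : NeZero 112 := ⟨by norm_num⟩

section Abstract

variable {G X ι : Type} [Group G] [MulAction G X]

/-- Elements with their permutations of a family of points. -/
def movesOf (P : ι → X) : Subgroup (G × Perm ι) where
  carrier := {u | ∀ i, u.1 • P i = P (u.2 i)}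
  one_mem' := fun i => one_smul _ _
  mul_mem' {u v} hu hv := fun i => by
    rw [Prod.fst_mul, Prod.snd_mul, mul_smul, hv i, hu, Perm.mul_apply]
  inv_mem' {u} hu := fun i => by
    rw [Prod.fst_inv, Prod.snd_inv, inv_smul_eq_iff, hu]
    simp

theorem movesOf_mul {P : ι → X} {x y : G} {p q : Perm ι} (hp : (x, p) ∈ movesOf P) (hq : (y, q) ∈ movesOf P) :
    (x * y, p * q) ∈ movesOf P := mul_mem hp hq

theorem movesOf_inv {P : ι → X} {x : G} {p : Perm ι} (hp : (x, p) ∈ movesOf P) : (x⁻¹, p⁻¹) ∈ movesOf P :=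
  inv_mem hp

theorem movesOf_one (P : ι → X) : ((1 : G), (1 : Perm ι)) ∈ movesOf P := one_mem _

theorem movesOf_apply {P : ι → X} {x : G} {p : Perm ι} (h : (x, p) ∈ movesOf P) (i : ι) : x • P i = P (p i) := h i

theorem movesOf_mk {P : ι → X} {x : G} {p : Perm ι} (h : ∀ i, x • P i = P (p i)) : (x, p) ∈ movesOf P := h

theorem smul_mk_quot (N : Subgroup G) (g h : G) : g • (QuotientGroup.mk h : G ⧸ N) = QuotientGroup.mk (g * h) := rfl

theorem smul_mk_eq_iff (N : Subgroup G) (g a b : G) :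
    g • (QuotientGroup.mk a : G ⧸ N) = QuotientGroup.mk b ↔ b⁻¹ * g * a ∈ N := by
  rw [smul_mk_quot, eq_comm, QuotientGroup.eq, mul_assoc]

theorem mk_eq_iff (N : Subgroup G) (a b : G) :
    (QuotientGroup.mk a : G ⧸ N) = QuotientGroup.mk b ↔ a⁻¹ * b ∈ N := QuotientGroup.eq

theorem smul_mk_central (N : Subgroup G) {z a : G} (hz : z ∈ N) (hc : z * a = a * z) :
    z • (QuotientGroup.mk a : G ⧸ N) = QuotientGroup.mk a := by
  rw [smul_mk_eq_iff, mul_assoc, hc, ← mul_assoc, inv_mul_cancel, one_mul]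
  exact hz

end Abstract

open scoped Classical in
/-- The element with a matrix of codes. -/
noncomputable def ofM (m : ℕ) : G6 := if h : ∃ g : G6, mm g = mat m then h.choose else 1

theorem mm_ofM {m : ℕ} (h : ∃ g : G6, mm g = mat m) : mm (ofM m) = mat m := by
  rw [ofM, dif_pos h]
  exact h.choose_spec

theorem ofM_eq {m : ℕ} {g : G6} (h : mm g = mat m) : ofM m = g := mm_injective ((mm_ofM ⟨g, h⟩).trans h.symm)

theorem of_suB {m : ℕ} (h : suB m = true) : mm (ofM m) = mat m := mm_ofM (exists_of_suB h)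

/-- The scalar of order three. -/
noncomputable def Zc : G6 := dT ⟨fun _ => 1, by decide⟩

theorem zMat_eq : mat zMat = Matrix.diagonal fun _ : Fin 6 => elE 1 := by decide +kernel

theorem mm_Zc : mm Zc = mat zMat := by rw [zMat_eq]; rfl

theorem Zc_comm (g : G6) : Zc * g = g * Zc := mm_injective (by
  rw [map_mul, map_mul, Zc, mm_dT]
  exact Matrix.scalar_commute (n := Fin 6) (elE 1) (fun r => Commute.all _ r) (mm g))

theorem Zc_mem_N6 : Zc ∈ N6 := T6_le (dT_mem _)

theorem mm_prod {f : ℕ → ℕ} {F : ℕ → G6} : ∀ {l : List ℕ}, (∀ k ∈ l, mm (F k) = mat (f k)) →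
    mm (l.map F).prod = mat (prodM (l.map f))
  | [], _ => by simpa [prodM] using mat_oneM.symm
  | a :: l, h => by
    rw [List.map_cons, List.prod_cons, map_mul, List.map_cons, prodM, mat_mulM, h a (List.mem_cons_self ..),
      mm_prod fun k hk => h k (List.mem_cons_of_mem _ hk)]

theorem mat_zPow (s : ℕ) : mat (zPow s) = mm (Zc ^ (s - 1)) := by
  rw [zPow, mat_prodM, List.map_replicate, List.prod_replicate, map_pow, mm_Zc]

theorem mem_of_word {H : Subgroup G6} {f : ℕ → ℕ} {F : ℕ → G6} {w : List ℕ × ℕ} {g : G6}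
    (hF : ∀ k ∈ w.1, F k ∈ H ∧ mm (F k) = mat (f k)) (hZ : Zc ∈ H) (hg : mm g = mat (wordM f w)) : g ∈ H := by
  have e : g = (w.1.map F).prod * Zc ^ (w.2 - 1) := mm_injective (by
    rw [hg, wordM, mat_mulM, map_mul, mm_prod fun k hk => (hF k hk).2, mat_zPow])
  rw [e]
  refine mul_mem (Subgroup.list_prod_mem _ fun x hx => ?_) (Subgroup.pow_mem _ hZ _)
  obtain ⟨k, hk, rfl⟩ := List.mem_map.1 hx
  exact (hF k hk).1

attribute [irreducible] ofM

attribute [local irreducible] Zc toP dT

theorem checks (c : ℕ) (hc : c < 3) :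
    baseB c = true ∧ treeOkB c = true ∧ moveB c 0 = true ∧ moveB c 1 = true ∧ farB c = true ∧ kerB c = true ∧
      wordsB c = true := by
  have h1 := base_ok; have h2 := tree_ok; have h3 := move_ok; have h4 := far_ok; have h5 := ker_ok; have h6 := words_ok
  simp only [List.all_eq_true, List.mem_range, Bool.and_eq_true] at h1 h2 h3 h4 h5 h6
  exact ⟨h1 c hc, h2 c hc, (h3 c hc).1, (h3 c hc).2, h4 c hc, h5 c hc, h6 c hc⟩

attribute [local irreducible] mulM starM mat detC suB monB sameM

/-- A generator. -/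
noncomputable def gen (c k : ℕ) : G6 := ofM (genM c k)

/-- The model. -/
noncomputable def KM (c : ℕ) : Subgroup G6 := Subgroup.closure {gen c 0, gen c 1, Zc}

theorem Zc_mem (c : ℕ) : Zc ∈ KM c := Subgroup.subset_closure (by simp)

theorem gen_mem (c k : ℕ) (hk : k < 2) : gen c k ∈ KM c := by
  interval_cases k <;> exact Subgroup.subset_closure (by simp)

theorem mm_gen {c k : ℕ} (hc : c < 3) (hk : k < 2) : mm (gen c k) = mat (genM c k) := by
  have h := (checks c hc).1
  simp only [baseB, Bool.and_eq_true] at h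
  rw [gen]
  interval_cases k
  exacts [of_suB h.1.1.1.1.1, of_suB h.1.1.1.1.2]

theorem node_exists {c : ℕ} (hc : c < 3) : ∀ i < 112, ∃ g ∈ KM c, mm g = mat (nodeM c i) := by
  have h := (checks c hc).2.1
  simp only [treeOkB, Bool.and_eq_true, List.all_eq_true, List.mem_range, Nat.ble_eq, Nat.blt, sameM_iff] at h
  obtain ⟨⟨h0, -⟩, hs⟩ := h
  intro i
  induction i using Nat.strong_induction_on with
  | _ i ih =>
    intro hi
    rcases i with _ | t
    · exact ⟨1, one_mem _, by rw [map_one, h0, mat_oneM]⟩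
    · obtain ⟨⟨⟨hp, hk⟩, he⟩, -⟩ := hs t (by omega)
      obtain ⟨g, hg, hgm⟩ := ih (orbitTree.getD t (0, 0)).1 (by omega) (by omega)
      exact ⟨gen c (orbitTree.getD t (0, 0)).2 * g, mul_mem (gen_mem c _ (by omega)) hg,
        by rw [map_mul, mm_gen hc (by omega), hgm, he, mat_mulM]⟩

/-- A node of the orbit. -/
noncomputable def node (c : ℕ) (i : Fin 112) : G6 := ofM (nodeM c i)

theorem node_spec {c : ℕ} (hc : c < 3) (i : Fin 112) : node c i ∈ KM c ∧ mm (node c i) = mat (nodeM c i) := by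
  obtain ⟨g, hg, e⟩ := node_exists hc i i.isLt
  rw [node, ofM_eq e]
  exact ⟨hg, e⟩

/-- The cosets of the monomial subgroup. -/
def Pts : Type := @HasQuotient.Quotient G6 (Subgroup G6) _ N6

/-- The coset of an element. -/
noncomputable def mkP (g : G6) : Pts := @QuotientGroup.mk G6 _ N6 g

noncomputable instance instActPts : MulAction G6 Pts := @MulAction.quotient G6 G6 _ _ _ N6 _

theorem smul_mkP_iff (g a b : G6) : g • mkP a = mkP b ↔ b⁻¹ * g * a ∈ N6 := @smul_mk_eq_iff G6 _ N6 g a b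

theorem mkP_eq_iff (a b : G6) : mkP a = mkP b ↔ a⁻¹ * b ∈ N6 := @mk_eq_iff G6 _ N6 a b

theorem smul_mkP_central {z a : G6} (hz : z ∈ N6) (hc : z * a = a * z) : z • mkP a = mkP a :=
  @smul_mk_central G6 _ N6 z a hz hc

attribute [irreducible] mkP Pts instActPts

/-- A point of the orbit. -/
noncomputable def pnt (c : ℕ) (i : Fin 112) : Pts := mkP (node c i)

theorem smul_pnt_eq_iff {c : ℕ} (hc : c < 3) {g : G6} {m : ℕ} (hg : mm g = mat m) (i j : Fin 112) :
    g • pnt c i = pnt c j ↔ monB (mulM (mulM (starM (nodeM c j)) m) (nodeM c i)) = true := by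
  rw [pnt, pnt, smul_mkP_iff]
  refine mono_iff_monB ?_
  rw [map_mul, map_mul, mm_inv_of (node_spec hc j).2, hg, (node_spec hc i).2, mat_mulM, mat_mulM]

/-- The permutation of a generator. -/
noncomputable def piG (k : ℕ) : Perm (Fin 112) := toP 7 112 (genP k)

theorem piG_rep {k : ℕ} (hk : k < 2) : Rep 7 (piG k) (genP k) := by
  have h := perm_tables
  rw [Bool.and_eq_true] at h
  interval_cases k
  exacts [(rep_of_invPairOk h.1).1, (rep_of_invPairOk h.2).1]

theorem gen_moves {c k : ℕ} (hc : c < 3) (hk : k < 2) (i : Fin 112) : gen c k • pnt c i = pnt c (piG k i) := by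
  rw [smul_pnt_eq_iff hc (mm_gen hc hk)]
  have h : moveB c k = true := by interval_cases k <;> [exact (checks c hc).2.2.1; exact (checks c hc).2.2.2.1]
  simp only [moveB, List.all_eq_true, List.mem_range] at h
  rw [piG_rep hk i]
  exact h i i.isLt

theorem Zc_moves (c : ℕ) (i : Fin 112) : Zc • pnt c i = pnt c i := by
  rw [pnt]
  exact smul_mkP_central Zc_mem_N6 (Zc_comm (node c i))

/-- Elements with their permutations of the orbit. -/
noncomputable abbrev moves (c : ℕ) : Subgroup (G6 × Perm (Fin 112)) := movesOf (pnt c)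

theorem gen_pair {c k : ℕ} (hc : c < 3) (hk : k < 2) : (gen c k, piG k) ∈ moves c :=
  movesOf_mk (G := G6) (P := pnt c) (gen_moves hc hk)

theorem moves_one (c : ℕ) : ((1 : G6), (1 : Perm (Fin 112))) ∈ moves c := movesOf_one (G := G6) (pnt c)

theorem moves_mul {c : ℕ} {x y : G6} {p q : Perm (Fin 112)} (hp : (x, p) ∈ moves c) (hq : (y, q) ∈ moves c) :
    (x * y, p * q) ∈ moves c := movesOf_mul (G := G6) hp hq

theorem moves_inv {c : ℕ} {x : G6} {p : Perm (Fin 112)} (hp : (x, p) ∈ moves c) : (x⁻¹, p⁻¹) ∈ moves c :=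
  movesOf_inv (G := G6) hp

theorem moves_apply {c : ℕ} {x : G6} {p : Perm (Fin 112)} (h : (x, p) ∈ moves c) (i : Fin 112) :
    x • pnt c i = pnt c (p i) := movesOf_apply (G := G6) h i

theorem Zc_pair (c : ℕ) : (Zc, (1 : Perm (Fin 112))) ∈ moves c :=
  movesOf_mk (G := G6) (P := pnt c) (fun i => by rw [Perm.one_apply]; exact Zc_moves c i)

attribute [local irreducible] movesOf piG

theorem tree_perm {c : ℕ} (hc : c < 3) :
    ∀ i (hi : i < 112), ∃ g p, (g, p) ∈ moves c ∧ p 0 = ⟨i, hi⟩ := by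
  have h := (checks c hc).2.1
  simp only [treeOkB, Bool.and_eq_true, List.all_eq_true, List.mem_range, Nat.ble_eq, Nat.blt, Nat.beq_eq] at h
  intro i
  induction i using Nat.strong_induction_on with
  | _ i ih =>
    intro hi
    rcases i with _ | t
    · exact ⟨1, 1, moves_one c, rfl⟩
    · obtain ⟨⟨⟨hp, hk⟩, -⟩, he⟩ := h.2 t (by omega)
      obtain ⟨g, p, hu, hu0⟩ := ih (orbitTree.getD t (0, 0)).1 (by omega) (by omega)
      have hk' : (orbitTree.getD t (0, 0)).2 < 2 := by omega
      refine ⟨gen c _ * g, piG _ * p, moves_mul (gen_pair hc hk') hu, Fin.ext ?_⟩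
      rw [Perm.mul_apply, hu0, piG_rep hk']
      exact he

theorem node_zero {c : ℕ} (hc : c < 3) : node c (0 : Fin 112) = 1 := mm_injective (by
  have ht := (checks c hc).2.1
  simp only [treeOkB, Bool.and_eq_true, sameM_iff] at ht
  rw [(node_spec hc 0).2, map_one, ← mat_oneM]
  exact ht.1.1)

theorem eq_zero_of_pnt {c : ℕ} (hc : c < 3) {x : Fin 112} (h : pnt c x = pnt c 0) : x = 0 := by
  by_contra hne
  have hv : 0 < (x : ℕ) := Nat.pos_of_ne_zero fun e => hne (Fin.ext e)
  have hf := (checks c hc).2.2.2.2.1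
  simp only [farB, List.all_eq_true, List.mem_range, Bool.not_eq_true'] at hf
  have e := hf ((x : ℕ) - 1) (by omega)
  rw [show (x : ℕ) - 1 + 1 = (x : ℕ) by omega] at e
  have hn : node c x ∈ N6 := by
    rw [pnt, pnt] at h
    have := (mkP_eq_iff (node c x) (node c 0)).1 h
    rw [node_zero hc, mul_one] at this
    exact inv_mem_iff.1 this
  rw [(mono_iff_monB (node_spec hc x).2).1 hn] at e
  exact Bool.noConfusion e

theorem pnt_injective {c : ℕ} (hc : c < 3) : Function.Injective (pnt c) := by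
  intro i j hij
  obtain ⟨g, p, hu, hu0⟩ := tree_perm hc j j.isLt
  have a := moves_apply (moves_inv hu) i
  rw [hij, moves_apply (moves_inv hu) j] at a
  have hj : p⁻¹ j = 0 := by rw [Perm.inv_eq_iff_eq]; exact hu0.symm
  rw [hj] at a
  have hi : p⁻¹ i = 0 := eq_zero_of_pnt hc a.symm
  exact p⁻¹.injective (hi.trans hj.symm)

theorem moves_unique {c : ℕ} (hc : c < 3) {g : G6} {p q : Perm (Fin 112)} (hp : (g, p) ∈ moves c)
    (hq : (g, q) ∈ moves c) : p = q :=
  Equiv.ext fun i => pnt_injective hc ((moves_apply hp i).symm.trans (moves_apply hq i))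

theorem exists_perm {c : ℕ} (hc : c < 3) {g : G6} (hg : g ∈ KM c) :
    ∃ p, (g, p) ∈ moves c ∧ p ∈ Subgroup.closure {piG 0, piG 1} := by
  induction hg using Subgroup.closure_induction with
  | mem x hx =>
    rcases hx with rfl | rfl | rfl
    · exact ⟨piG 0, gen_pair hc (by norm_num), Subgroup.subset_closure (by simp)⟩
    · exact ⟨piG 1, gen_pair hc (by norm_num), Subgroup.subset_closure (by simp)⟩
    · exact ⟨1, Zc_pair c, one_mem _⟩
  | one => exact ⟨1, moves_one c, one_mem _⟩
  | mul x y _ _ hx hy =>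
    obtain ⟨p, hp, hp'⟩ := hx
    obtain ⟨q, hq, hq'⟩ := hy
    exact ⟨p * q, moves_mul hp hq, mul_mem hp' hq'⟩
  | inv x _ hx =>
    obtain ⟨p, hp, hp'⟩ := hx
    exact ⟨p⁻¹, moves_inv hp, inv_mem hp'⟩

/-- The action of a model on its orbit. -/
noncomputable def phi {c : ℕ} (hc : c < 3) : ↥(KM c) →* Perm (Fin 112) :=
  MonoidHom.mk' (fun g => (exists_perm hc g.2).choose) fun g h =>
    moves_unique hc (exists_perm hc (g * h).2).choose_spec.1
      (moves_mul (exists_perm hc g.2).choose_spec.1 (exists_perm hc h.2).choose_spec.1)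

theorem phi_spec {c : ℕ} (hc : c < 3) (g : ↥(KM c)) : ((g : G6), phi hc g) ∈ moves c :=
  (exists_perm hc g.2).choose_spec.1

theorem phi_range {c : ℕ} (hc : c < 3) : (phi hc).range = Subgroup.closure {piG 0, piG 1} := by
  refine le_antisymm ?_ ((Subgroup.closure_le _).2 ?_)
  · rintro _ ⟨g, rfl⟩
    exact (exists_perm hc g.2).choose_spec.2
  · rintro p (rfl | rfl)
    · exact ⟨⟨gen c 0, gen_mem c 0 (by norm_num)⟩, moves_unique hc (phi_spec hc _) (gen_pair hc (by norm_num))⟩
    · exact ⟨⟨gen c 1, gen_mem c 1 (by norm_num)⟩, moves_unique hc (phi_spec hc _) (gen_pair hc (by norm_num))⟩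

/-- An even monomial letter. -/
noncomputable def evenG (c k : ℕ) : G6 := ofM ((evenMats.getD c []).getD k 0)

theorem mm_evenG {c k : ℕ} (hc : c < 3) (hk : k < 8) : mm (evenG c k) = mat ((evenMats.getD c []).getD k 0) := by
  have h := (checks c hc).1
  simp only [baseB, Bool.and_eq_true, List.all_eq_true, List.mem_range] at h
  rw [evenG]
  exact of_suB (h.1.2 k hk)

/-- The far frame. -/
noncomputable def farG (c : ℕ) : G6 := ofM (farMats.getD c 0)

theorem mm_farG {c : ℕ} (hc : c < 3) : mm (farG c) = mat (farMats.getD c 0) := by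
  have h := (checks c hc).1
  simp only [baseB, Bool.and_eq_true] at h
  rw [farG]
  exact of_suB h.1.1.2

/-- A letter of a word in the generators. -/
noncomputable def genLet (c k : ℕ) : G6 := if k < 2 then gen c k else (gen c (k - 2))⁻¹

theorem genLet_spec {c k : ℕ} (hc : c < 3) (hk : k < 4) : genLet c k ∈ KM c ∧ mm (genLet c k) = mat (genL c k) := by
  rw [genLet, genL]
  by_cases h : k < 2
  · rw [if_pos h, show Nat.blt k 2 = true by simp only [Nat.blt, Nat.ble_eq]; omega]
    exact ⟨gen_mem c k h, mm_gen hc h⟩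
  · rw [if_neg h, show Nat.blt k 2 = false by simp only [Nat.blt, Bool.eq_false_iff, ne_eq, Nat.ble_eq]; omega]
    exact ⟨inv_mem (gen_mem c _ (by omega)), mm_inv_of (mm_gen hc (by omega))⟩

theorem getD_mem {α : Type} {l : List α} {k : ℕ} (d : α) (h : k < l.length) : l.getD k d ∈ l := by
  rw [List.getD_eq_getElem _ _ h]
  exact List.getElem_mem _

theorem evenG_mem {c k : ℕ} (hc : c < 3) (hk : k < 5) : evenG c k ∈ KM c := by
  have h := (checks c hc).2.2.2.2.2.2
  simp only [wordsB, Bool.and_eq_true, List.all_eq_true, List.mem_range, sameM_iff, Nat.blt, Nat.ble_eq] at h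
  refine mem_of_word (w := tWords.getD k ([], 0)) (F := genLet c) (fun j hj => genLet_spec hc ?_) (Zc_mem c)
    ((mm_evenG hc (by omega)).trans (h.1.1.1.2 k hk))
  have := h.2 _ (List.mem_append_left _ (getD_mem _ (show k < tWords.length from hk))) j hj
  omega

theorem conj_inv_mem {G : Type} [Group G] {H : Subgroup G} {f e : G} (h : f * e * f⁻¹ ∈ H) :
    f * e⁻¹ * f⁻¹ ∈ H := by
  rw [show f * e⁻¹ * f⁻¹ = (f * e * f⁻¹)⁻¹ by group]
  exact inv_mem h

theorem conj_inv_mem6 (H : Subgroup G6) (f e : G6) (h : f * e * f⁻¹ ∈ H) : f * e⁻¹ * f⁻¹ ∈ H :=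
  conj_inv_mem h

attribute [local irreducible] farG evenG gen N6

/-- An even monomial letter or its inverse. -/
noncomputable def evenLet (c k : ℕ) : G6 := if k < 8 then evenG c k else (evenG c (k - 8))⁻¹

/-- A letter of the monomial words. -/
noncomputable def monLet (c k : ℕ) : G6 :=
  if k < 16 then evenLet c k else farG c * evenLet c (k - 16) * (farG c)⁻¹

theorem evenLet_spec {c k : ℕ} (hc : c < 3) (hk : k < 16) {H : Subgroup G6}
    (hE : ∀ k < 8, evenG c k ∈ H ∧ farG c * evenG c k * (farG c)⁻¹ ∈ H) :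
    evenLet c k ∈ H ∧ farG c * evenLet c k * (farG c)⁻¹ ∈ H ∧ mm (evenLet c k) = mat (evenM c k) := by
  rw [evenLet, evenM]
  by_cases h8 : k < 8
  · rw [if_pos h8, show Nat.blt k 8 = true by simp only [Nat.blt, Nat.ble_eq]; omega, cond_true]
    exact ⟨(hE k h8).1, (hE k h8).2, mm_evenG hc h8⟩
  · rw [if_neg h8, show Nat.blt k 8 = false by simp only [Nat.blt, Bool.eq_false_iff, ne_eq, Nat.ble_eq]; omega,
      cond_false]
    have h2 := hE (k - 8) (by omega)
    exact ⟨H.inv_mem h2.1, conj_inv_mem6 H (farG c) (evenG c (k - 8)) h2.2, mm_inv_of (mm_evenG hc (by omega))⟩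

theorem monLet_spec {c k : ℕ} (hc : c < 3) (hk : k < 32) {H : Subgroup G6}
    (hE : ∀ k < 8, evenG c k ∈ H ∧ farG c * evenG c k * (farG c)⁻¹ ∈ H) :
    monLet c k ∈ H ∧ mm (monLet c k) = mat (letM c k) := by
  rw [monLet, letM]
  by_cases h16 : k < 16
  · rw [if_pos h16, show Nat.blt k 16 = true by simp only [Nat.blt, Nat.ble_eq]; omega, cond_true]
    exact ⟨(evenLet_spec hc h16 hE).1, (evenLet_spec hc h16 hE).2.2⟩
  · rw [if_neg h16, show Nat.blt k 16 = false by simp only [Nat.blt, Bool.eq_false_iff, ne_eq, Nat.ble_eq]; omega,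
      cond_false]
    have h2 := evenLet_spec (k := k - 16) hc (by omega) hE
    refine ⟨h2.2.1, ?_⟩
    rw [map_mul, map_mul, mm_farG hc, mm_inv_of (mm_farG hc), h2.2.2, mat_mulM, mat_mulM]

/-- A model lies in a subgroup with the even monomial letters and a conjugate of them by a far frame. -/
theorem KM_le {c : ℕ} (hc : c < 3) {H : Subgroup G6} (hZ : Zc ∈ H)
    (hE : ∀ k < 8, evenG c k ∈ H ∧ farG c * evenG c k * (farG c)⁻¹ ∈ H) : KM c ≤ H := by
  have h := (checks c hc).2.2.2.2.2.2
  simp only [wordsB, Bool.and_eq_true, List.all_eq_true, List.mem_range, sameM_iff, Nat.blt, Nat.ble_eq] at h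
  obtain ⟨⟨⟨⟨⟨hx, hy⟩, -⟩, -⟩, hl⟩, -⟩ := h
  refine (Subgroup.closure_le _).2 ?_
  rintro g (rfl | rfl | rfl)
  · refine mem_of_word (f := letM c) (F := monLet c) (w := xWord) (fun k hk => monLet_spec hc ?_ hE) hZ
      ((mm_gen hc (by norm_num)).trans hx)
    have := hl k (List.mem_append_left _ hk)
    omega
  · refine mem_of_word (f := letM c) (F := monLet c) (w := yWord) (fun k hk => monLet_spec hc ?_ hE) hZ
      ((mm_gen hc (by norm_num)).trans hy)
    have := hl k (List.mem_append_right _ hk)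
    omega
  · exact hZ

end Cfsg.Lib.SUSixU43
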