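import Cfsg.Agent.Lib.SUSixU43.QCheck
import Cfsg.Agent.Lib.SUSixU43.Model
import Cfsg.Agent.Lib.PermAut.MclPsu
import Cfsg.Agent.Lib.Linear.PSUSimple

/-! PSU(4,3) on its 112 lines. -/

set_option autoImplicit false
set_option maxRecDepth 20000

namespace Cfsg.Lib.SUSixU43

open Cfsg Equiv MulAction Cfsg.Lib.PermAut
open Cfsg.Lib.PermAut.MclPsu (R9)

/-- The group on 112 points. -/
noncomputable def Q112 : Subgroup (Perm (Fin 112)) := Subgroup.closure {piG 0, piG 1}

/-- A permutation of the points moves the lines by a permutation of the lines. -/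
def LineRel (p : Perm (Fin 280)) (q : Perm (Fin 112)) : Prop :=
  ∀ j : Fin 112, ∀ a : Fin 280, (a : ℕ) ∈ lineSets.getD j [] → ((p a : Fin 280) : ℕ) ∈ lineSets.getD (q j : Fin 112) []

instance : NeZero 280 := ⟨by norm_num⟩

/-- The pairs of permutations. -/
noncomputable def lineRels : Subgroup (Perm (Fin 280) × Perm (Fin 112)) :=
  let M : Submonoid (Perm (Fin 280) × Perm (Fin 112)) :=
    { carrier := {u | LineRel u.1 u.2}
      one_mem' := fun _ _ h => h
      mul_mem' := fun {u v} hu hv j a ha => hu (v.2 j) (v.1 a) (hv j a ha) }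
  { M with
    inv_mem' := fun {u} hu => by
      have h1 : 0 < orderOf u := orderOf_pos u
      have e : u ^ (orderOf u - 1) = u⁻¹ := by
        refine eq_inv_of_mul_eq_one_right ?_
        rw [← pow_succ', Nat.sub_add_cancel h1, pow_orderOf_eq_one]
      rw [← e]
      exact M.pow_mem hu _ }

theorem lineRel_one {q : Perm (Fin 112)} (h : LineRel 1 q) : q = 1 := by
  refine Equiv.ext fun j => by_contra fun hne => ?_
  have hs := sep_ok
  simp only [sepB, List.all_eq_true, List.mem_range, Bool.or_eq_true, Nat.beq_eq, List.any_eq_true,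
    Bool.not_eq_true', List.any_eq_false] at hs
  rcases hs (j : ℕ) j.isLt (q j : Fin 112) (Fin.isLt _) with e | ⟨a, ha, hout⟩
  · exact hne (Fin.ext e).symm
  have hla : a < 280 := by
    have hl := line_sets
    simp only [lineB, Bool.and_eq_true, List.all_eq_true, List.mem_range, Nat.blt, Nat.ble_eq] at hl
    exact (hl.1 _ j.isLt a ha).1
  exact hout a (h j ⟨a, hla⟩ ha) rfl

theorem lineRels_unique {p : Perm (Fin 280)} {q q' : Perm (Fin 112)} (h : (p, q) ∈ lineRels)
    (h' : (p, q') ∈ lineRels) : q = q' := by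
  have hu : ((p, q)⁻¹ * (p, q') : Perm (Fin 280) × Perm (Fin 112)) ∈ lineRels := mul_mem (inv_mem h) h'
  have e : LineRel 1 (q⁻¹ * q') := by
    have := hu
    rwa [show ((p, q)⁻¹ * (p, q') : Perm (Fin 280) × Perm (Fin 112)) = (1, q⁻¹ * q') by
      ext1 <;> simp] at this
  exact inv_mul_eq_one.1 (lineRel_one e)

theorem line_valid : MclPsu.lineSub.Valid 9 280 := PermAut.Sub.valid MclPsu.line_ok

/-- A line generator. -/
noncomputable def lineP (k : ℕ) : Perm (Fin 280) := toP 9 280 (lineGen k)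

theorem lineP_rep {k : ℕ} (hk : k < 2) : Rep 9 (lineP k) (lineGen k) := by
  interval_cases k
  exacts [line_valid.g0, line_valid.g1]

theorem gT_eq {k : ℕ} (hk : k < 2) : gT k = genP k := by interval_cases k <;> rfl

theorem gen_rel {k : ℕ} (hk : k < 2) : (lineP k, piG k) ∈ lineRels := by
  have hl : lineB k = true := by
    have := line_sets
    rw [Bool.and_eq_true] at this
    interval_cases k
    exacts [this.1, this.2]
  simp only [lineB, List.all_eq_true, List.mem_range, Bool.and_eq_true, List.any_eq_true, Nat.beq_eq] at hl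
  intro j a ha
  obtain ⟨-, b, hb, e⟩ := hl j j.isLt a ha
  rw [lineP_rep hk a, piG_rep hk j, ← gT_eq hk, e]
  exact hb

theorem exists_rel {p : Perm (Fin 280)} (hp : p ∈ MclPsu.lineSub.grp 9 280) :
    ∃ q ∈ Q112, (p, q) ∈ lineRels := by
  induction hp using Subgroup.closure_induction with
  | mem x hx =>
    rcases hx with rfl | rfl
    · exact ⟨piG 0, Subgroup.subset_closure (by simp), gen_rel (by norm_num)⟩
    · exact ⟨piG 1, Subgroup.subset_closure (by simp), gen_rel (by norm_num)⟩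
  | one => exact ⟨1, one_mem _, one_mem _⟩
  | mul x y _ _ hx hy =>
    obtain ⟨q, hq, hr⟩ := hx
    obtain ⟨q', hq', hr'⟩ := hy
    exact ⟨q * q', mul_mem hq hq', mul_mem hr hr'⟩
  | inv x _ hx =>
    obtain ⟨q, hq, hr⟩ := hx
    exact ⟨q⁻¹, inv_mem hq, inv_mem hr⟩

theorem lineP_mem {k : ℕ} (hk : k < 2) : lineP k ∈ MclPsu.lineSub.grp 9 280 := by
  refine Subgroup.subset_closure ?_
  interval_cases k
  exacts [Or.inl rfl, Or.inr rfl]

/-- The action on lines. -/
noncomputable def toLines : ↥(MclPsu.lineSub.grp 9 280) →* Perm (Fin 112) :=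
  MonoidHom.mk' (fun g => (exists_rel g.2).choose) fun g h =>
    lineRels_unique (exists_rel (g * h).2).choose_spec.2
      (mul_mem (exists_rel g.2).choose_spec.2 (exists_rel h.2).choose_spec.2)

theorem toLines_range : toLines.range = Q112 := by
  refine le_antisymm ?_ ((Subgroup.closure_le _).2 ?_)
  · rintro _ ⟨g, rfl⟩
    exact (exists_rel g.2).choose_spec.1
  · rintro q (rfl | rfl)
    · exact ⟨⟨lineP 0, lineP_mem (by norm_num)⟩,
        lineRels_unique (exists_rel (lineP_mem (by norm_num))).choose_spec.2 (gen_rel (by norm_num))⟩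
    · exact ⟨⟨lineP 1, lineP_mem (by norm_num)⟩,
        lineRels_unique (exists_rel (lineP_mem (by norm_num))).choose_spec.2 (gen_rel (by norm_num))⟩

theorem piG_ne : piG 0 ≠ 1 := by
  have h : ∃ j : Fin 112, ent 7 (genP 0) j ≠ j := by decide +kernel
  obtain ⟨j, hj⟩ := h
  intro e
  exact hj (by rw [← piG_rep (by norm_num : 0 < 2) j, e]; rfl)

theorem simple_psu : IsSimpleGroup (PSU 4 R9 3) :=
  Cfsg.Lib.Linear.Herm.psu_simple (show Fintype.card R9 = 3 ^ 2 from MclPsu.card_r9) le_rfl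

theorem psu_equiv_Q112 : Nonempty (PSU 4 R9 3 ≃* ↥Q112) := by
  obtain ⟨e⟩ := MclPsu.line_equiv
  have := simple_psu
  let f : PSU 4 R9 3 →* Perm (Fin 112) := toLines.comp e.symm.toMonoidHom
  have hr : f.range = Q112 := by
    rw [MonoidHom.range_comp, MonoidHom.range_eq_top.2 e.symm.surjective, ← MonoidHom.range_eq_map, toLines_range]
  have hinj : Function.Injective f := by
    rw [← MonoidHom.ker_eq_bot_iff]
    refine (IsSimpleGroup.eq_bot_or_eq_top_of_normal f.ker (MonoidHom.normal_ker f)).resolve_right fun h => piG_ne ?_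
    have hm : piG 0 ∈ f.range := hr ▸ Subgroup.subset_closure (by simp)
    obtain ⟨x, hx⟩ := hm
    rw [← hx]
    exact MonoidHom.mem_ker.1 (h ▸ Subgroup.mem_top x)
  exact ⟨(MonoidHom.ofInjective hinj).trans (MulEquiv.subgroupCongr hr)⟩

theorem card_Q112 : Nat.card ↥Q112 = 3265920 := by
  obtain ⟨e⟩ := psu_equiv_Q112
  rw [← Nat.card_congr e.toEquiv]
  exact Cfsg.Lib.Linear.PSUFourSeven.card_PSU MclPsu.card_r9

theorem center_Q112 : Subgroup.center ↥Q112 = ⊥ := by
  obtain ⟨e⟩ := psu_equiv_Q112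
  have hs : IsSimpleGroup ↥Q112 := by
    haveI := simple_psu
    exact e.symm.isSimpleGroup
  refine (hs.eq_bot_or_eq_top_of_normal _ inferInstance).resolve_right fun h => ?_
  have hcomm : ∀ x y : ↥Q112, x * y = y * x := fun x y => (Subgroup.mem_center_iff.1 (h ▸ Subgroup.mem_top y) x)
  have hprime : (Nat.card ↥Q112).Prime := by
    letI : CommGroup ↥Q112 := { (inferInstance : Group ↥Q112) with mul_comm := hcomm }
    exact IsSimpleGroup.prime_card
  rw [card_Q112] at hprime
  exact absurd hprime (by norm_num)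

/-- A permutation of a table. -/
noncomputable def tP (T : ℕ) : Perm (Fin 112) := toP 7 112 T

theorem tabs_rep {p : ℕ × ℕ}
    (hp : p ∈ rTabs ++ sTabs ++ eGens ++ eElts ++ hData.map (fun h => h.2.2.2) ++ invData.map (fun h => h.2) ++
      rootCent.map fun h => h.2) : Rep 7 (tP p.1) p.1 := by
  have h := tabs_ok
  simp only [tabsB, Bool.and_eq_true, List.all_eq_true] at h
  exact (rep_of_invPairOk (h.1.1.1.1.1.1.1 p hp)).1

theorem tabs_len : rTabs.length = 112 ∧ sTabs.length = 224 ∧ eGens.length = 4 ∧ eElts.length = 81 ∧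
    hData.length = 6 ∧ invData.length = 4 ∧ rootCent.length = 2 := by
  have h := tabs_ok
  simp only [tabsB, Bool.and_eq_true, Nat.beq_eq] at h
  exact ⟨h.1.1.1.1.1.1.2, h.1.1.1.1.1.2, h.1.1.1.1.2, h.1.1.1.2, h.1.1.2, h.1.2, h.2⟩

theorem rep_rT {i : ℕ} (hi : i < 112) : Rep 7 (tP (rT i)) (rT i) :=
  tabs_rep (by simp only [List.mem_append]; exact Or.inl (Or.inl (Or.inl (Or.inl (Or.inl (Or.inl
    (getD_mem _ (tabs_len.1.symm ▸ hi))))))))

theorem rep_sT {i : ℕ} (hi : i < 224) : Rep 7 (tP (sT i)) (sT i) :=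
  tabs_rep (by simp only [List.mem_append]; exact Or.inl (Or.inl (Or.inl (Or.inl (Or.inl (Or.inr
    (getD_mem _ (tabs_len.2.1.symm ▸ hi))))))))

theorem rep_eT {i : ℕ} (hi : i < 4) : Rep 7 (tP (eT i)) (eT i) :=
  tabs_rep (by simp only [List.mem_append]; exact Or.inl (Or.inl (Or.inl (Or.inl (Or.inr
    (getD_mem _ (tabs_len.2.2.1.symm ▸ hi)))))))

theorem rep_xT {i : ℕ} (hi : i < 81) : Rep 7 (tP (xT i)) (xT i) :=
  tabs_rep (by simp only [List.mem_append]; exact Or.inl (Or.inl (Or.inl (Or.inr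
    (getD_mem _ (tabs_len.2.2.2.1.symm ▸ hi))))))

theorem rep_gT {k : ℕ} (hk : k < 2) : Rep 7 (piG k) (gT k) := gT_eq hk ▸ piG_rep hk

theorem tP_gT {k : ℕ} (hk : k < 2) : tP (gT k) = piG k := by rw [gT_eq hk]; rfl

theorem eq_of_tabs {l l' : List ℕ} (h : ∀ T ∈ l, Rep 7 (tP T) T) (h' : ∀ T ∈ l', Rep 7 (tP T) T)
    (hs : sameB 7 112 l l' = true) : (l.map tP).prod = (l'.map tP).prod := eq_of_sameB h h' hs

theorem ev_eq {l : List ℕ} (h : ∀ T ∈ l, Rep 7 (tP T) T) (x : Fin 112) : ((l.map tP).prod x : ℕ) = ev 7 l x :=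
  ev_rep h x

/-- The subgroup fixing the first point. -/
noncomputable def St : Subgroup (Perm (Fin 112)) := Q112 ⊓ stabilizer (Perm (Fin 112)) (0 : Fin 112)

/-- The radical. -/
noncomputable def E112 : Subgroup (Perm (Fin 112)) := Subgroup.closure {p | ∃ k < 4, p = tP (eT k)}

theorem rT_facts : ∀ i (hi : i < 112), tP (rT i) ∈ Q112 ∧ tP (rT i) 0 = ⟨i, hi⟩ := by
  have h := trans_ok
  simp only [transB, Bool.and_eq_true, List.all_eq_true, List.mem_range, Nat.ble_eq, Nat.blt, Nat.beq_eq] at h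
  obtain ⟨⟨⟨⟨h0, -⟩, hs⟩, hz⟩, -⟩ := h
  intro i hi
  refine ⟨?_, Fin.ext ((rep_rT hi 0).trans (hz i hi))⟩
  induction i using Nat.strong_induction_on with
  | _ i ih =>
    rcases i with _ | t
    · have := eq_of_tabs (l := [rT 0]) (l' := []) (by simpa using rep_rT hi) (by simp) h0
      simp only [List.map_cons, List.map_nil, List.prod_cons, List.prod_nil, mul_one] at this
      rw [this]
      exact one_mem _
    · obtain ⟨⟨hp, hk⟩, he⟩ := hs t (by omega)
      have hp' : (orbitTree.getD t (0, 0)).1 < 112 := by omega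
      have hk' : (orbitTree.getD t (0, 0)).2 < 2 := by omega
      have := eq_of_tabs (l := [rT (t + 1)]) (by simpa using rep_rT hi)
        (by simp only [List.forall_mem_cons, List.not_mem_nil, false_imp_iff, implies_true, and_true]
            exact ⟨(tP_gT hk').symm ▸ rep_gT hk', rep_rT hp'⟩) he
      simp only [List.map_cons, List.map_nil, List.prod_cons, List.prod_nil, mul_one] at this
      rw [this, tP_gT hk']
      exact mul_mem (Subgroup.subset_closure (by rcases (show _ = 0 ∨ _ = 1 from Nat.le_one_iff_eq_zero_or_eq_one.1 (Nat.lt_succ_iff.1 hk')) with e | e <;> rw [e] <;> simp))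
        (ih _ (by omega) hp')

theorem piG_mem {k : ℕ} (hk : k < 2) : piG k ∈ Q112 := Subgroup.subset_closure (by interval_cases k <;> simp)

theorem sT_step {i k : ℕ} (hi : i < 112) (hk : k < 2) :
    tP (rT (piG k ⟨i, hi⟩ : Fin 112)) * tP (sT (2 * i + k)) = piG k * tP (rT i) := by
  have h := trans_ok
  simp only [transB, Bool.and_eq_true, List.all_eq_true, List.mem_range] at h
  have e := h.2 (2 * i + k) (by omega)
  rw [show (2 * i + k) % 2 = k by omega, show (2 * i + k) / 2 = i by omega,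
    ← rep_gT hk ⟨i, hi⟩] at e
  have := eq_of_tabs
    (by simp only [List.forall_mem_cons, List.not_mem_nil, false_imp_iff, implies_true, and_true]
        exact ⟨rep_rT (Fin.isLt _), rep_sT (by omega)⟩)
    (by simp only [List.forall_mem_cons, List.not_mem_nil, false_imp_iff, implies_true, and_true]
        exact ⟨(tP_gT hk).symm ▸ rep_gT hk, rep_rT hi⟩) e
  simpa only [List.map_cons, List.map_nil, List.prod_cons, List.prod_nil, mul_one, tP_gT hk] using this

theorem sT_mem {s : ℕ} (hs : s < 224) : tP (sT s) ∈ St := by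
  have hk : s % 2 < 2 := Nat.mod_lt _ (by norm_num)
  have e := sT_step (i := s / 2) (k := s % 2) (by omega) hk
  rw [show 2 * (s / 2) + s % 2 = s by omega] at e
  set j : Fin 112 := piG (s % 2) ⟨s / 2, by omega⟩ with hj
  have hv : tP (sT s) = (tP (rT j))⁻¹ * (piG (s % 2) * tP (rT (s / 2))) := by rw [← e]; group
  refine ⟨?_, ?_⟩
  · show tP (sT s) ∈ Q112
    rw [hv]
    exact mul_mem (inv_mem (rT_facts j j.isLt).1) (mul_mem (piG_mem hk) (rT_facts _ (by omega)).1)
  · show tP (sT s) 0 = 0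
    rw [hv, Perm.mul_apply, Perm.mul_apply, (rT_facts (s / 2) (by omega)).2, ← hj, Perm.inv_def,
      Equiv.symm_apply_eq]
    exact ((rT_facts j j.isLt).2).symm

theorem St_le_of_gens {H : Subgroup (Perm (Fin 112))} (hS : ∀ s < 224, tP (sT s) ∈ H) (h0 : tP (rT 0) = 1) :
    St ≤ H := by
  have key : ∀ g ∈ Q112, ∀ i : Fin 112, (tP (rT (g i)))⁻¹ * g * tP (rT i) ∈ H := by
    intro g hg
    induction hg using Subgroup.closure_induction with
    | mem x hx =>
      intro i
      have aux : ∀ k < 2, (tP (rT (piG k i)))⁻¹ * piG k * tP (rT i) ∈ H := fun k hk => by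
        rw [mul_assoc, ← sT_step (i := i) i.isLt hk, inv_mul_cancel_left]
        exact hS _ (by omega)
      rcases hx with rfl | rfl
      exacts [aux 0 (by norm_num), aux 1 (by norm_num)]
    | one => intro i; simp
    | mul x y _ _ hx hy =>
      intro i
      have := mul_mem (hx (y i)) (hy i)
      rw [Perm.mul_apply]
      convert this using 1
      group
    | inv x _ hx =>
      intro i
      have := inv_mem (hx (x⁻¹ i))
      rw [Perm.coe_inv, Equiv.apply_symm_apply] at this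
      convert this using 1
      rw [Perm.coe_inv]
      group
  intro g hg
  have := key g hg.1 0
  rw [show g 0 = 0 from hg.2, show ((0 : Fin 112) : ℕ) = 0 from rfl, h0] at this
  simpa using this

theorem rT_zero : tP (rT 0) = 1 := by
  have h := trans_ok
  simp only [transB, Bool.and_eq_true] at h
  have := eq_of_tabs (l := [rT 0]) (l' := []) (by simpa using rep_rT (by norm_num : 0 < 112)) (by simp) h.1.1.1.1
  simpa using this

theorem card_St : Nat.card ↥St = 29160 := by
  have horb : ∀ x : Fin 112, ∃ g : ↥Q112, g • (0 : Fin 112) = x := fun x =>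
    ⟨⟨_, (rT_facts x x.isLt).1⟩, (rT_facts x x.isLt).2⟩
  have ho : orbit ↥Q112 (0 : Fin 112) = Set.univ := Set.eq_univ_of_forall fun x => horb x
  have h := (stabilizer ↥Q112 (0 : Fin 112)).card_mul_index
  rw [index_stabilizer, ho, Set.ncard_univ, Nat.card_fin, card_Q112] at h
  have e : Nat.card ↥(stabilizer ↥Q112 (0 : Fin 112)) = Nat.card ↥St :=
    Nat.card_congr ⟨fun g => ⟨g.1.1, g.1.2, g.2⟩, fun g => ⟨⟨g.1, g.2.1⟩, g.2.2⟩, fun _ => rfl, fun _ => rfl⟩
  omega

theorem mem_of_wordS {w : List ℕ} {T : ℕ} (hT : Rep 7 (tP T) T) (h : wordS w T = true) : tP T ∈ St := by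
  simp only [wordS, Bool.and_eq_true, List.all_eq_true, Nat.blt, Nat.ble_eq] at h
  have hm : ∀ x ∈ w.map sT, ∃ s < 224, x = sT s := fun x hx => by
    obtain ⟨s, hs, rfl⟩ := List.mem_map.1 hx
    exact ⟨s, h.1 s hs, rfl⟩
  have := eq_of_tabs (l := [T]) (by simpa using hT) (fun x hx => by
    obtain ⟨s, hs, rfl⟩ := hm x hx
    exact rep_sT hs) h.2
  simp only [List.map_cons, List.map_nil, List.prod_cons, List.prod_nil, mul_one] at this
  rw [this]
  refine Subgroup.list_prod_mem _ fun p hp => ?_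
  obtain ⟨x, hx, rfl⟩ := List.mem_map.1 hp
  obtain ⟨s, hs, rfl⟩ := hm x hx
  exact sT_mem hs

theorem eT_mem_St {k : ℕ} (hk : k < 4) : tP (eT k) ∈ St := by
  have h := rad_ok
  simp only [radB, Bool.and_eq_true, List.all_eq_true, List.mem_range] at h
  exact mem_of_wordS (rep_eT hk) (h.1.1.1 k hk)

theorem E112_le_St : E112 ≤ St := (Subgroup.closure_le _).2 fun _ ⟨_, hk, e⟩ => e ▸ eT_mem_St hk

theorem rep_expWord {a : ℕ} : ∀ T ∈ expWord a, Rep 7 (tP T) T := by
  intro T hT
  simp only [expWord, List.mem_append, List.mem_replicate] at hT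
  rcases hT with ((⟨-, rfl⟩ | ⟨-, rfl⟩) | ⟨-, rfl⟩) | ⟨-, rfl⟩ <;> exact rep_eT (by norm_num)

theorem xT_eq {a : ℕ} (ha : a < 81) : tP (xT a) = ((expWord a).map tP).prod := by
  have h := rad_ok
  simp only [radB, Bool.and_eq_true, List.all_eq_true, List.mem_range] at h
  have := eq_of_tabs (l := [xT a]) (by simpa using rep_xT ha) rep_expWord (h.1.1.2 a ha)
  simpa using this

theorem xT_mem {a : ℕ} (ha : a < 81) : tP (xT a) ∈ E112 := by
  rw [xT_eq ha]
  refine Subgroup.list_prod_mem _ fun p hp => ?_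
  obtain ⟨T, hT, rfl⟩ := List.mem_map.1 hp
  simp only [expWord, List.mem_append, List.mem_replicate] at hT
  refine Subgroup.subset_closure ?_
  rcases hT with ((⟨-, rfl⟩ | ⟨-, rfl⟩) | ⟨-, rfl⟩) | ⟨-, rfl⟩
  exacts [⟨0, by norm_num, rfl⟩, ⟨1, by norm_num, rfl⟩, ⟨2, by norm_num, rfl⟩, ⟨3, by norm_num, rfl⟩]

theorem xT_zero : tP (xT 0) = 1 := by rw [xT_eq (by norm_num)]; simp [expWord]

theorem mem_E112 {p : Perm (Fin 112)} (hp : p ∈ E112) : ∃ a < 81, p = tP (xT a) := by
  have h := rad_ok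
  simp only [radB, Bool.and_eq_true, List.all_eq_true, List.mem_range, Nat.blt, Nat.ble_eq] at h
  have step : ∀ k < 4, ∀ a < 81, ∃ b < 81, tP (eT k) * tP (xT a) = tP (xT b) := fun k hk a ha => by
    obtain ⟨hb, e⟩ := h.1.2 (81 * k + a) (by omega)
    rw [show (81 * k + a) / 81 = k by omega, show (81 * k + a) % 81 = a by omega] at e
    refine ⟨_, hb, ?_⟩
    have := eq_of_tabs (by simpa using ⟨rep_eT hk, rep_xT ha⟩) (by simpa using rep_xT (i := eNext.getD (81 * k + a) 0) hb) e
    simpa using this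
  have pw : ∀ k < 4, ∀ (n : ℕ) (a : ℕ), a < 81 → ∃ b < 81, tP (eT k) ^ n * tP (xT a) = tP (xT b) := by
    intro k hk n
    induction n with
    | zero => exact fun a ha => ⟨a, ha, by simp⟩
    | succ n ih =>
      intro a ha
      obtain ⟨b, hb, e⟩ := ih a ha
      obtain ⟨b', hb', e'⟩ := step k hk b hb
      exact ⟨b', hb', by rw [pow_succ', mul_assoc, e, e']⟩
  induction hp using Subgroup.closure_induction_left with
  | one => exact ⟨0, by norm_num, xT_zero.symm⟩
  | mul_left x hx y _ ih =>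
    obtain ⟨k, hk, rfl⟩ := hx
    obtain ⟨a, ha, rfl⟩ := ih
    exact step k hk a ha
  | inv_mul_cancel x hx y _ ih =>
    obtain ⟨k, hk, rfl⟩ := hx
    obtain ⟨a, ha, rfl⟩ := ih
    have e : (tP (eT k))⁻¹ = tP (eT k) ^ (orderOf (tP (eT k)) - 1) := by
      refine inv_eq_of_mul_eq_one_right ?_
      rw [← pow_succ', Nat.sub_add_cancel (orderOf_pos _), pow_orderOf_eq_one]
    rw [e]
    exact pw k hk _ a ha

theorem xT_inj {a b : ℕ} (ha : a < 81) (hb : b < 81) (e : tP (xT a) = tP (xT b)) : a = b := by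
  have h := rad_ok
  simp only [radB, Bool.and_eq_true, List.all_eq_true, List.mem_range, Bool.not_eq_true'] at h
  have no : ∀ {u v : ℕ}, u < 81 → v < u → tP (xT u) ≠ tP (xT v) := fun {u v} hu hv e => by
    have hs : sameB 7 112 [xT u] [xT v] = true := sameB_iff.2 fun x hx => by
      have e1 := ev_eq (l := [xT u]) (by simpa using rep_xT hu) ⟨x, hx⟩
      have e2 := ev_eq (l := [xT v]) (by simpa using rep_xT (hv.trans hu)) ⟨x, hx⟩
      simp only [List.map_cons, List.map_nil, List.prod_cons, List.prod_nil, mul_one, e] at e1 e2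
      rw [Nat.beq_eq]
      exact e1.symm.trans e2
    rw [h.2 u hu v hv] at hs
    exact Bool.false_ne_true hs
  rcases lt_trichotomy a b with hl | hl | hl
  exacts [absurd e.symm (no hb hl), hl, absurd e (no ha hl)]

theorem card_E112 : Nat.card ↥E112 = 81 := by
  refine (Nat.card_congr (Equiv.ofBijective (fun a : Fin 81 => (⟨tP (xT a), xT_mem a.isLt⟩ : ↥E112))
    ⟨fun a b e => Fin.ext (xT_inj a.isLt b.isLt (congrArg Subtype.val e)), fun p => ?_⟩)).symm.trans (Nat.card_fin 81)
  obtain ⟨a, ha, e⟩ := mem_E112 p.2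
  exact ⟨⟨a, ha⟩, Subtype.ext e.symm⟩

/-- The stabiliser normalises the radical. -/
theorem St_normal {g e : Perm (Fin 112)} (hg : g ∈ St) (he : e ∈ E112) : g * e * g⁻¹ ∈ E112 := by
  haveI : Finite ↥E112 := Finite.of_injective _ Subtype.val_injective
  suffices h : St ≤ Subgroup.normalizer (E112 : Set (Perm (Fin 112))) from
    (Subgroup.mem_normalizer_iff.1 (h hg) e).1 he
  refine St_le_of_gens (fun s hs => ?_) rT_zero
  have hn := norm_ok
  simp only [normB, List.all_eq_true, List.mem_range, Bool.and_eq_true, Nat.blt, Nat.ble_eq] at hn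
  have hmap : E112.map (MulAut.conj (tP (sT s))).toMonoidHom = E112 := by
    refine Subgroup.eq_of_le_of_card_ge ?_ (by
      rw [Subgroup.card_map_of_injective (f := (MulAut.conj (tP (sT s))).toMonoidHom) (EquivLike.injective (MulAut.conj (tP (sT s))))])
    rw [E112, MonoidHom.map_closure, Subgroup.closure_le]
    rintro _ ⟨_, ⟨k, hk, rfl⟩, rfl⟩
    obtain ⟨hb, e⟩ := hn (4 * s + k) (by omega)
    rw [show (4 * s + k) / 4 = s by omega, show (4 * s + k) % 4 = k by omega] at e
    have := eq_of_tabs (by simpa using ⟨rep_sT hs, rep_eT hk⟩)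
      (by simpa using ⟨rep_xT (i := sImg.getD (4 * s + k) 0) hb, rep_sT hs⟩) e
    simp only [List.map_cons, List.map_nil, List.prod_cons, List.prod_nil, mul_one] at this
    show tP (sT s) * tP (eT k) * (tP (sT s))⁻¹ ∈ E112
    rw [this, mul_inv_cancel_right]
    exact xT_mem hb
  rw [Subgroup.mem_normalizer_iff]
  intro x
  constructor
  · intro hx
    rw [← hmap]
    exact ⟨x, hx, rfl⟩
  · intro hx
    rw [← hmap] at hx
    obtain ⟨y, hy, e⟩ := hx
    rwa [← (MulAut.conj (tP (sT s))).injective e]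

theorem rep_hData {h : ℕ × ℕ × List ℕ × ℕ × ℕ} (hm : h ∈ hData) : Rep 7 (tP h.2.2.2.1) h.2.2.2.1 :=
  tabs_rep (p := h.2.2.2) (by
    simp only [List.mem_append]
    exact Or.inl (Or.inl (Or.inr (List.mem_map.2 ⟨h, hm, rfl⟩))))

/-- Every two generators are separated by an inverting element. -/
theorem exists_inverting {i j : ℕ} (hi : i < 4) (hj : j < 4) (hij : i ≠ j) :
    ∃ a b, ((a = i ∧ b = j) ∨ (a = j ∧ b = i)) ∧ ∃ h ∈ St, h * tP (eT a) * h⁻¹ = (tP (eT a)) ^ 2 ∧
      h * tP (eT b) * h⁻¹ = tP (eT b) := by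
  have hc := invert_ok
  simp only [invertB, Bool.and_eq_true, List.all_eq_true, List.mem_range, Bool.or_eq_true, Nat.beq_eq,
    List.any_eq_true, Nat.blt, Nat.ble_eq] at hc
  obtain ⟨⟨hd, -⟩, hp⟩ := hc
  rcases hp i hi j hj with e | ⟨h, hm, hh⟩
  · exact absurd e hij
  obtain ⟨⟨⟨⟨h1, h2⟩, hw⟩, e1⟩, e2⟩ := hd h hm
  have f1 := eq_of_tabs (by simpa using ⟨rep_hData hm, rep_eT h1⟩)
    (by simpa using ⟨rep_eT h1, rep_hData hm⟩) e1
  have f2 := eq_of_tabs (by simpa using ⟨rep_hData hm, rep_eT h2⟩)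
    (by simpa using ⟨rep_eT h2, rep_hData hm⟩) e2
  simp only [List.map_cons, List.map_nil, List.prod_cons, List.prod_nil, mul_one] at f1 f2
  refine ⟨h.1, h.2.1, hh, _, mem_of_wordS (rep_hData hm) hw, ?_, ?_⟩
  · rw [f1, sq]; group
  · rw [f2, mul_inv_cancel_right]

/-- Every generator is inverted. -/
theorem exists_inverter {k : ℕ} (hk : k < 4) : ∃ h ∈ St, h * tP (eT k) * h⁻¹ = (tP (eT k)) ^ 2 := by
  have hc := invert_ok
  simp only [invertB, Bool.and_eq_true, List.all_eq_true, List.mem_range] at hc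
  obtain ⟨hw, e⟩ := hc.1.2 k hk
  have hr : Rep 7 (tP (invData.getD k ([], 0, 0)).2.1) (invData.getD k ([], 0, 0)).2.1 :=
    tabs_rep (p := (invData.getD k ([], 0, 0)).2) (by
      simp only [List.mem_append]
      exact Or.inl (Or.inr (List.mem_map.2 ⟨_, getD_mem _ (tabs_len.2.2.2.2.2.1.symm ▸ hk), rfl⟩)))
  have f := eq_of_tabs (by simpa using ⟨hr, rep_eT hk⟩) (by simpa using ⟨rep_eT hk, hr⟩) e
  simp only [List.map_cons, List.map_nil, List.prod_cons, List.prod_nil, mul_one] at f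
  refine ⟨_, mem_of_wordS hr hw, ?_⟩
  rw [f, sq]; group

/-- The root element. -/
noncomputable def root : Perm (Fin 112) := tP (xT rootIx)

theorem rootIx_lt : rootIx < 81 ∧ rootIx ≠ 0 := by decide

theorem root_mem : root ∈ E112 := xT_mem rootIx_lt.1

theorem root_ne : root ≠ 1 := fun e =>
  rootIx_lt.2 (xT_inj rootIx_lt.1 (by norm_num) (e.trans xT_zero.symm))

theorem rep_cT {k : ℕ} (hk : k < 2) : Rep 7 (tP (cT k)) (cT k) :=
  tabs_rep (p := (rootCent.getD k ([], 0, 0)).2) (by
    simp only [List.mem_append]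
    exact Or.inr (List.mem_map.2 ⟨_, getD_mem _ (tabs_len.2.2.2.2.2.2.symm ▸ hk), rfl⟩))

/-- Two commuting elements of order three that centralise the root element, independent modulo the radical. -/
theorem root_centralizers : ∃ c₁ c₂ : Perm (Fin 112), c₁ ∈ St ∧ c₂ ∈ St ∧ c₁ * root = root * c₁ ∧
    c₂ * root = root * c₂ ∧ c₁ ^ 3 = 1 ∧ c₂ ^ 3 = 1 ∧ c₁ * c₂ = c₂ * c₁ ∧
    ∀ a < 3, ∀ b < 3, c₁ ^ a * c₂ ^ b ∈ E112 → a = 0 ∧ b = 0 := by
  have h := root_ok
  simp only [rootB, Bool.and_eq_true, List.all_eq_true, List.mem_range, Bool.not_eq_true'] at h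
  obtain ⟨⟨⟨-, hk⟩, hcomm⟩, hnot⟩ := h
  have props : ∀ k < 2, tP (cT k) ∈ St ∧ tP (cT k) * root = root * tP (cT k) ∧ tP (cT k) ^ 3 = 1 := fun k hk2 => by
    obtain ⟨⟨hw, hc⟩, h3⟩ := hk k hk2
    refine ⟨mem_of_wordS (rep_cT hk2) hw, ?_, ?_⟩
    · simpa [root] using eq_of_tabs (by simpa using ⟨rep_cT hk2, rep_xT rootIx_lt.1⟩)
        (by simpa using ⟨rep_xT rootIx_lt.1, rep_cT hk2⟩) hc
    · simpa [pow_succ, mul_assoc] using eq_of_tabs (by simpa using rep_cT hk2) (by simp) h3
  have r0 := rep_cT (k := 0) (by norm_num)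
  have r1 := rep_cT (k := 1) (by norm_num)
  refine ⟨tP (cT 0), tP (cT 1), (props 0 (by norm_num)).1, (props 1 (by norm_num)).1, (props 0 (by norm_num)).2.1,
    (props 1 (by norm_num)).2.1, (props 0 (by norm_num)).2.2, (props 1 (by norm_num)).2.2,
    by simpa using eq_of_tabs (by simpa using ⟨r0, r1⟩) (by simpa using ⟨r1, r0⟩) hcomm, ?_⟩
  intro a ha b hb hE
  by_contra hne
  obtain ⟨m, hm, e⟩ := mem_E112 hE
  have hs : sameB 7 112 (List.replicate a (cT 0) ++ List.replicate b (cT 1)) [xT m] = true := by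
    have hl : ∀ T ∈ List.replicate a (cT 0) ++ List.replicate b (cT 1), Rep 7 (tP T) T := fun T hT => by
      simp only [List.mem_append, List.mem_replicate] at hT
      rcases hT with ⟨-, rfl⟩ | ⟨-, rfl⟩
      exacts [r0, r1]
    refine sameB_iff.2 fun x hx => ?_
    have e1 := ev_eq hl ⟨x, hx⟩
    have e2 := ev_eq (l := [xT m]) (by simpa using rep_xT hm) ⟨x, hx⟩
    simp only [List.map_append, List.map_replicate, List.prod_append, List.prod_replicate, e,
      List.map_cons, List.map_nil, List.prod_cons, List.prod_nil, mul_one] at e1 e2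
    rw [Nat.beq_eq]
    exact e1.symm.trans e2
  have := hnot (a + 3 * b - 1) (by omega) m hm
  rw [show (a + 3 * b - 1 + 1) % 3 = a by omega, show (a + 3 * b - 1 + 1) / 3 = b by omega, hs] at this
  exact Bool.noConfusion this

/-- A conjugate radical meeting the radical in the root group. -/
theorem exists_far : ∃ k ∈ Q112, k⁻¹ * root * k ∈ E112 ∧
    ∀ e ∈ E112, k⁻¹ * e * k ∈ E112 → e = 1 ∨ e = root ∨ e = root ^ 2 := by
  have h := meet_ok
  simp only [meetB, Bool.and_eq_true, List.all_eq_true, List.mem_range, Bool.or_eq_true, Nat.beq_eq, Nat.blt,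
    Nat.ble_eq, Bool.not_eq_true'] at h
  obtain ⟨⟨⟨hk, hm⟩, he⟩, hall⟩ := h
  have rk : Rep 7 (tP (rT farIx)) (rT farIx) := rep_rT hk
  refine ⟨tP (rT farIx), (rT_facts _ hk).1, ?_, fun e he' hE => ?_⟩
  · have f := eq_of_tabs (by simpa using ⟨rep_xT rootIx_lt.1, rk⟩)
      (by simpa using ⟨rk, rep_xT (i := meetIx.getD rootIx 81) hm⟩) he
    simp only [List.map_cons, List.map_nil, List.prod_cons, List.prod_nil, mul_one] at f
    rw [root, mul_assoc, f, inv_mul_cancel_left]
    exact xT_mem hm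
  · obtain ⟨a, ha, rfl⟩ := mem_E112 he'
    rcases hall a ha with ((rfl | rfl) | h2) | hno
    · exact Or.inl xT_zero
    · exact Or.inr (Or.inl rfl)
    · refine Or.inr (Or.inr ?_)
      simpa [sq, root] using eq_of_tabs (by simpa using rep_xT ha)
        (by simpa using rep_xT rootIx_lt.1) h2
    · exfalso
      obtain ⟨m, hm', e⟩ := mem_E112 hE
      have e' : tP (xT a) * tP (rT farIx) = tP (rT farIx) * tP (xT m) := by rw [← e]; group
      have hs : sameB 7 112 [xT a, rT farIx] [rT farIx, xT m] = true := sameB_iff.2 fun x hx => by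
        have e1 := ev_eq (l := [xT a, rT farIx]) (by simpa using ⟨rep_xT ha, rk⟩) ⟨x, hx⟩
        have e2 := ev_eq (l := [rT farIx, xT m]) (by simpa using ⟨rk, rep_xT hm'⟩) ⟨x, hx⟩
        simp only [List.map_cons, List.map_nil, List.prod_cons, List.prod_nil, mul_one, e'] at e1 e2
        rw [Nat.beq_eq]
        exact e1.symm.trans e2
      rw [hno m hm'] at hs
      exact Bool.noConfusion hs

end Cfsg.Lib.SUSixU43
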