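import Mathlib

/-! Generic facts: transport of the three class statement, and conjugacy inside a subgroup. -/

set_option autoImplicit false

namespace Cfsg.Lib.SUSixU43

open MulAction

section

variable {G : Type} [Group G]

/-- An abelian subgroup of given order. -/
def GoodSub (m : ℕ) (E : Subgroup G) : Prop := (∀ a ∈ E, ∀ b ∈ E, a * b = b * a) ∧ Nat.card ↥E = m

theorem GoodSub.map {H : Type} [Group H] {m : ℕ} {E : Subgroup G} (h : GoodSub m E) {f : G →* H}
    (hf : Function.Injective f) : GoodSub m (E.map f) := by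
  refine ⟨?_, (Subgroup.card_map_of_injective hf).trans h.2⟩
  rintro _ ⟨a, ha, rfl⟩ _ ⟨b, hb, rfl⟩
  rw [← map_mul, ← map_mul, h.1 a ha b hb]

/-- A subgroup good in a Sylow subgroup being unique, good subgroups of any subgroup are conjugate inside it. -/
theorem exists_conj_in_sub [Finite G] {p n : ℕ} [Fact p.Prime] (S : Sylow p G) {T0 : Subgroup G}
    (huniq : ∀ E : Subgroup G, E ≤ (S : Subgroup G) → GoodSub (p ^ n) E → E = T0) {K E T : Subgroup G}
    (hE : E ≤ K) (hT : T ≤ K) (gE : GoodSub (p ^ n) E) (gT : GoodSub (p ^ n) T) :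
    ∃ h ∈ K, E.map (MulAut.conj h).toMonoidHom = T := by
  have pg : ∀ {A : Subgroup G}, A ≤ K → GoodSub (p ^ n) A → IsPGroup p ↥(A.subgroupOf K) := fun hA gA =>
    IsPGroup.of_card (n := n) ((Nat.card_congr (Subgroup.subgroupOfEquivOfLe hA).toEquiv).trans gA.2)
  obtain ⟨P, hP⟩ := (pg hE gE).exists_le_sylow
  obtain ⟨Q, hQ⟩ := (pg hT gT).exists_le_sylow
  obtain ⟨h, hh⟩ := MulAction.exists_smul_eq ↥K P Q
  set Q' : Subgroup G := (Q : Subgroup ↥K).map K.subtype with hQ'
  obtain ⟨R, hR⟩ := (Q.isPGroup'.map K.subtype).exists_le_sylow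
  obtain ⟨g, hg⟩ := MulAction.exists_smul_eq G R S
  have inS : ∀ A : Subgroup G, A ≤ Q' → A.map (MulAut.conj g).toMonoidHom ≤ (S : Subgroup G) := by
    rintro A hA _ ⟨x, hx, rfl⟩
    have e : ((g • R : Sylow p G) : Subgroup G) = (S : Subgroup G) := by rw [hg]
    show (MulAut.conj g).toMonoidHom x ∈ (S : Subgroup G)
    rw [← e]
    exact Subgroup.smul_mem_pointwise_smul x (MulAut.conj g) _ (hR (hA hx))
  have inT : T ≤ Q' := fun x hx => ⟨⟨x, hT hx⟩, hQ (show (⟨x, hT hx⟩ : ↥K) ∈ T.subgroupOf K from hx), rfl⟩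
  have inE : E.map (MulAut.conj (h : G)).toMonoidHom ≤ Q' := by
    rintro _ ⟨x, hx, rfl⟩
    refine ⟨MulAut.conj h ⟨x, hE hx⟩, ?_, rfl⟩
    have e : ((h • P : Sylow p ↥K) : Subgroup ↥K) = (Q : Subgroup ↥K) := by rw [hh]
    rw [SetLike.mem_coe, ← e]
    exact Subgroup.smul_mem_pointwise_smul (⟨x, hE hx⟩ : ↥K) (MulAut.conj h) _
      (hP (show (⟨x, hE hx⟩ : ↥K) ∈ E.subgroupOf K from hx))
  have inj : Function.Injective (MulAut.conj g).toMonoidHom := EquivLike.injective (MulAut.conj g)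
  have injh : Function.Injective (MulAut.conj (h : G)).toMonoidHom := EquivLike.injective (MulAut.conj (h : G))
  refine ⟨h, h.2, Subgroup.map_injective inj ?_⟩
  rw [huniq _ (inS _ inE) ((gE.map injh).map inj), huniq _ (inS _ inT) (gT.map inj)]

theorem map_conj_conj (K : Subgroup G) (g h : G) :
    (K.map (MulAut.conj g).toMonoidHom).map (MulAut.conj h).toMonoidHom = K.map (MulAut.conj (h * g)).toMonoidHom := by
  rw [Subgroup.map_map]
  exact congrArg (fun f => K.map f) (MonoidHom.ext fun x => by simp [mul_assoc])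

theorem conj_mem_of_map_eq {T : Subgroup G} {n : G} (e : T.map (MulAut.conj n).toMonoidHom = T) :
    ∀ t ∈ T, n⁻¹ * t * n ∈ T := by
  intro t ht
  rw [← e] at ht
  obtain ⟨s, hs, rfl⟩ := ht
  show n⁻¹ * (n * s * n⁻¹) * n ∈ T
  simpa [mul_assoc] using hs

theorem center_card_mul {m : ℕ} {Q : Type} [Group Q] (K : Subgroup G) (hc : Nat.card ↥(Subgroup.center ↥K) = m)
    (e : Nonempty (↥K ⧸ Subgroup.center ↥K ≃* Q)) : Nat.card ↥K = m * Nat.card Q := by
  obtain ⟨e⟩ := e
  rw [← (Subgroup.center ↥K).card_mul_index, hc, Subgroup.index, Nat.card_congr e.toEquiv]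

/-- The centre of a quotient cover. -/
theorem center_eq_ker_of_range {K : Subgroup G} {P : Type} [Group P] (f : ↥K →* P) {R : Subgroup P}
    (hr : f.range = R) (hR : Subgroup.center ↥R = ⊥) (hk : ∀ x, f x = 1 → ∀ y, y * x = x * y) :
    Subgroup.center ↥K = f.ker := by
  refine le_antisymm (fun z hz => ?_) fun x hx => Subgroup.mem_center_iff.2 (hk x (MonoidHom.mem_ker.1 hx))
  have hm : (⟨f z, hr ▸ ⟨z, rfl⟩⟩ : ↥R) ∈ Subgroup.center ↥R := Subgroup.mem_center_iff.2 fun y => by
    obtain ⟨w, hw⟩ : (y : P) ∈ f.range := hr.symm ▸ y.2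
    refine Subtype.ext ?_
    show (y : P) * f z = f z * (y : P)
    rw [← hw, ← map_mul, ← map_mul, Subgroup.mem_center_iff.1 hz w]
  rw [hR, Subgroup.mem_bot] at hm
  exact MonoidHom.mem_ker.2 (congrArg Subtype.val hm)

end

/-- A subgroup with centre of order three and given central quotient. -/
def IsCover {G : Type} [Group G] (X : Type) [Group X] (K : Subgroup G) : Prop :=
  Nat.card ↥(Subgroup.center ↥K) = 3 ∧ Nonempty (↥K ⧸ Subgroup.center ↥K ≃* X)

theorem map_center_equiv {A B : Type} [Group A] [Group B] (v : A ≃* B) :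
    (Subgroup.center A).map v.toMonoidHom = Subgroup.center B := by
  ext x
  simp only [Subgroup.mem_map, Subgroup.mem_center_iff, MulEquiv.coe_toMonoidHom]
  constructor
  · rintro ⟨y, hy, rfl⟩ z
    obtain ⟨w, rfl⟩ := v.surjective z
    rw [← map_mul, ← map_mul, hy]
  · intro hx
    refine ⟨v.symm x, fun z => v.injective ?_, v.apply_symm_apply x⟩
    rw [map_mul, map_mul, v.apply_symm_apply, hx]

theorem IsCover.map {G H X : Type} [Group G] [Group H] [Group X] {K : Subgroup G} (h : IsCover X K) (e : G ≃* H) :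
    IsCover X (K.map e.toMonoidHom) := by
  let v : ↥K ≃* ↥(K.map e.toMonoidHom) := K.equivMapOfInjective e.toMonoidHom e.injective
  obtain ⟨f⟩ := h.2
  exact ⟨(Nat.card_congr (Subgroup.centerCongr v).toEquiv).symm.trans h.1,
    ⟨(QuotientGroup.congr _ _ v (map_center_equiv v)).symm.trans f⟩⟩

/-- The three class statement. -/
def ThreeClasses (G X : Type) [Group G] [Group X] : Prop :=
  ∃ K₁ K₂ K₃ : Subgroup G, (∀ K ∈ [K₁, K₂, K₃], IsCover X K) ∧
    (¬ ∃ g : G, K₁.map (MulAut.conj g).toMonoidHom = K₂) ∧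
    (¬ ∃ g : G, K₁.map (MulAut.conj g).toMonoidHom = K₃) ∧
    (¬ ∃ g : G, K₂.map (MulAut.conj g).toMonoidHom = K₃) ∧
    ∀ K : Subgroup G, IsCover X K → ∃ g : G, K.map (MulAut.conj g).toMonoidHom = K₁ ∨
      K.map (MulAut.conj g).toMonoidHom = K₂ ∨ K.map (MulAut.conj g).toMonoidHom = K₃

theorem map_conj_equiv {G H : Type} [Group G] [Group H] (e : G ≃* H) (K : Subgroup G) (g : G) :
    (K.map (MulAut.conj g).toMonoidHom).map e.toMonoidHom =
      (K.map e.toMonoidHom).map (MulAut.conj (e g)).toMonoidHom := by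
  rw [Subgroup.map_map, Subgroup.map_map]
  exact congrArg (fun f => K.map f) (MonoidHom.ext fun x => by simp)

theorem ThreeClasses.map {G H X : Type} [Group G] [Group H] [Group X] (h : ThreeClasses G X) (e : G ≃* H) :
    ThreeClasses H X := by
  obtain ⟨A, B, C, hQ, hAB, hAC, hBC, hU⟩ := h
  have inj : Function.Injective (Subgroup.map (e.toMonoidHom : G →* H)) := Subgroup.map_injective e.injective
  have ne : ∀ K L : Subgroup G, (¬ ∃ g : G, K.map (MulAut.conj g).toMonoidHom = L) →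
      ¬ ∃ g : H, (K.map e.toMonoidHom).map (MulAut.conj g).toMonoidHom = L.map e.toMonoidHom := by
    rintro K L hKL ⟨g, hg⟩
    obtain ⟨g₀, rfl⟩ := e.surjective g
    rw [← map_conj_equiv] at hg
    exact hKL ⟨g₀, inj hg⟩
  refine ⟨_, _, _, ?_, ne A B hAB, ne A C hAC, ne B C hBC, fun K hK => ?_⟩
  · simp only [List.mem_cons, List.not_mem_nil, or_false]
    rintro K (rfl | rfl | rfl)
    exacts [(hQ A (by simp)).map e, (hQ B (by simp)).map e, (hQ C (by simp)).map e]
  · obtain ⟨g, hg⟩ := hU _ (hK.map e.symm)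
    have hK' : K = (K.map e.symm.toMonoidHom).map e.toMonoidHom := by
      rw [Subgroup.map_map]
      refine (Subgroup.map_id K).symm.trans (congrArg (fun f => K.map f) (MonoidHom.ext fun x => ?_))
      simp
    refine ⟨e g, ?_⟩
    rw [hK', ← map_conj_equiv]
    rcases hg with hg | hg | hg
    exacts [Or.inl (by rw [hg]), Or.inr (Or.inl (by rw [hg])), Or.inr (Or.inr (by rw [hg]))]

end Cfsg.Lib.SUSixU43
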