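import Mathlib

/-! Certificates for the frames over a pair of complementary triples. -/

set_option autoImplicit false
set_option maxRecDepth 20000

namespace Cfsg.Lib.SUSixU43

/-- The positions of the two triples. -/
def triples : List (List ℕ) := [[0, 1, 2, 3, 4, 5], [0, 1, 3, 2, 4, 5], [0, 1, 4, 2, 3, 5], [0, 1, 5, 2, 3, 4], [0, 2, 3, 1, 4, 5], [0, 2, 4, 1, 3, 5], [0, 2, 5, 1, 3, 4], [0, 3, 4, 1, 2, 5], [0, 3, 5, 1, 2, 4], [0, 4, 5, 1, 2, 3]]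

/-- The lines supported by one triple. -/
def tripleLines : List (List ℕ) := [[1, 4, 16, 21, 57, 45, 37, 25, 61, 53, 41, 29, 64, 256, 1024, 1344, 3648, 2880, 2368, 1600, 3904, 3392, 2624, 1856], [1, 4, 64, 69, 201, 141, 133, 73, 205, 197, 137, 77, 16, 256, 1024, 1296, 3600, 2832, 2320, 1552, 3856, 3344, 2576, 1808], [1, 4, 256, 261, 777, 525, 517, 265, 781, 773, 521, 269, 16, 64, 1024, 1104, 3216, 2256, 2128, 1168, 3280, 3152, 2192, 1232], [1, 4, 1024, 1029, 3081, 2061, 2053, 1033, 3085, 3077, 2057, 1037, 16, 64, 256, 336, 912, 720, 592, 400, 976, 848, 656, 464], [1, 16, 64, 81, 225, 177, 145, 97, 241, 209, 161, 113, 4, 256, 1024, 1284, 3588, 2820, 2308, 1540, 3844, 3332, 2564, 1796], [1, 16, 256, 273, 801, 561, 529, 289, 817, 785, 545, 305, 4, 64, 1024, 1092, 3204, 2244, 2116, 1156, 3268, 3140, 2180, 1220], [1, 16, 1024, 1041, 3105, 2097, 2065, 1057, 3121, 3089, 2081, 1073, 4, 64,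 256, 324, 900, 708, 580, 388, 964, 836, 644, 452], [1, 64, 256, 321, 897, 705, 577, 385, 961, 833, 641, 449, 4, 16, 1024, 1044, 3108, 2100, 2068, 1060, 3124, 3092, 2084, 1076], [1, 64, 1024, 1089, 3201, 2241, 2113, 1153, 3265, 3137, 2177, 1217, 4, 16, 256, 276, 804, 564, 532, 292, 820, 788, 548, 308], [1, 256, 1024, 1281, 3585, 2817, 2305, 1537, 3841, 3329, 2561, 1793, 4, 16, 64, 84, 228, 180, 148, 100, 244, 212, 164, 116]]

/-- Words for the far frames. -/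
def candWords : List (ℕ × List ℕ) := [(0, []), (0, [2]), (0, [6]), (0, [7]), (0, [10]), (0, [14]), (0, [15]), (0, [6, 2]), (0, [7, 2]), (0, [14, 2]), (0, [15, 2]), (0, [0, 6]), (0, [13, 6]), (0, [15, 6]), (0, [1, 7]), (0, [6, 7]), (0, [14, 7]), (0, [14, 10]), (0, [15, 10]), (0, [13, 14]), (0, [13, 6, 2]), (0, [15, 6, 2]), (0, [6, 7, 2]), (0, [7, 7, 2]), (0, [14, 7, 2]), (0, [7, 14, 2]), (0, [13, 14, 2]), (0, [15, 14, 2]), (0, [13, 0, 6]), (0, [13, 14, 10]), (1, []), (1, [2]), (1, [6]), (1, [7]), (1, [10]), (1, [14]), (1, [15]), (1, [6, 2]), (1, [7, 2]), (1, [14, 2]), (1, [15, 2]), (1, [0, 6]), (1, [13, 6]), (1, [15, 6]), (1, [1, 7]), (1, [6, 7]), (1, [14, 7]), (1, [14, 10]), (1, [15, 10]), (1, [13, 14]), (1, [13, 6, 2]), (1, [15, 6, 2]), (1, [6, 7, 2]), (1, [7, 7, 2]), (1, [14, 7, 2]), (1, [7, 14, 2]), (1, [13, 14, 2]), (1, [15, 14, 2]), (1, [13, 0, 6]), (1, [13, 14, 10]), (2, []),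 (2, [2]), (2, [6]), (2, [7]), (2, [10]), (2, [14]), (2, [15]), (2, [6, 2]), (2, [7, 2]), (2, [14, 2]), (2, [15, 2]), (2, [0, 6]), (2, [13, 6]), (2, [15, 6]), (2, [1, 7]), (2, [6, 7]), (2, [14, 7]), (2, [14, 10]), (2, [15, 10]), (2, [13, 14]), (2, [13, 6, 2]), (2, [15, 6, 2]), (2, [6, 7, 2]), (2, [7, 7, 2]), (2, [14, 7, 2]), (2, [7, 14, 2]), (2, [13, 14, 2]), (2, [15, 14, 2]), (2, [13, 0, 6]), (2, [13, 14, 10])]

/-- The outcome for each pair of frames of the triples. -/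
def frameWit : List ℕ := [111, 111, 111, 111, 171, 0, 34, 61, 171, 30, 64, 1, 171, 60, 4, 31, 147, 147, 147, 147, 171, 12, 58, 80, 171, 42, 88, 20, 171, 72, 28, 50, 255, 255, 255, 255, 117, 5, 47, 69, 117, 35, 77, 9, 117, 65, 17, 39, 93, 93, 93, 93, 279, 6, 48, 70, 279, 36, 78, 10, 279, 66, 18, 40, 153, 153, 153, 153, 171, 3, 44, 68, 171, 33, 74, 8, 171, 63, 14, 38, 261, 261, 261, 261, 117, 19, 59, 86, 117, 49, 89, 26, 117, 79, 29, 56, 99, 99, 99, 99, 279, 15, 52, 85, 279, 45, 82, 25, 279, 75, 22, 55, 279, 279, 279, 279, 99, 13, 51, 83, 99, 43, 81, 23, 99, 73, 21, 53, 117, 117, 117, 117, 261, 16, 54, 87, 261, 46, 84, 27, 261, 76, 24, 57, 171, 171, 171, 171, 153, 2, 37, 71, 153, 32, 67, 11, 153, 62, 7, 41]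

end Cfsg.Lib.SUSixU43
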