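import Cfsg.Agent.Lib.SUSixU43.ModelCheck
import Cfsg.Agent.Lib.SUSixU43.FrameData

/-! Checks of the certificates for the frames. -/

set_option autoImplicit false
set_option maxRecDepth 100000

namespace Cfsg.Lib.SUSixU43

open Cfsg.Lib.PermAut

/-- A position in a triple. -/
def posAt (p k : ℕ) : ℕ := (triples.getD p []).getD k 0

/-- The triple of a position. -/
def blockOf (p i : ℕ) : ℕ :=
  bif Nat.beq (posAt p 0) i || Nat.beq (posAt p 1) i || Nat.beq (posAt p 2) i then 0 else 1

/-- A coordinate of a vector code. -/
def vdig (v i : ℕ) : ℕ := v / 4 ^ i % 4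

/-- The vector code of three coordinates in a triple. -/
def spread (p b x : ℕ) : ℕ :=
  vdig x 0 * 4 ^ posAt p (3 * b) + vdig x 1 * 4 ^ posAt p (3 * b + 1) + vdig x 2 * 4 ^ posAt p (3 * b + 2)

/-- The Hermitian product of vector codes. -/
def hermC (u v : ℕ) : ℕ := dot6 (vdig u) fun i => cjC (vdig v i)

/-- A multiple of a vector code. -/
def scaleC (a v : ℕ) : ℕ := pack 6 fun i => muC a (vdig v i)

/-- A line of a triple pair. -/
def lineV (p l : ℕ) : ℕ := (tripleLines.getD p []).getD l 0

/-- The six lines of a pair of frames. -/
def sixLine (ka kb r : ℕ) : ℕ := bif Nat.blt r 3 then 3 * ka + r else 12 + 3 * kb + (r - 3)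

/-- A column of a matrix of codes. -/
def colC (m k : ℕ) : ℕ := pack 6 fun i => mget m i k

/-- A far frame. -/
noncomputable def candM (j : ℕ) : ℕ :=
  mulM (prodM ((candWords.getD j (0, [])).2.map (evenM (candWords.getD j (0, [])).1)))
    (farMats.getD (candWords.getD j (0, [])).1 0)

/-- The triples are the six positions. -/
noncomputable def posB : Bool :=
  (List.range 10).all fun p => (List.range 6).all fun i =>
    Nat.blt (posAt p i) 6 && ((List.range 6).any fun k => Nat.beq (posAt p k) i && Nat.beq (k / 3) (blockOf p i))

/-- The vectors of norm one are multiples of lines. -/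
noncomputable def coverB : Bool :=
  (List.range 10).all fun p => (List.range 2).all fun b => (List.range 64).all fun x =>
    !Nat.beq (hermC (spread p b x) (spread p b x)) 1 ||
      (List.range 12).any fun l => (List.range 3).any fun a =>
        Nat.beq (spread p b x) (scaleC (a + 1) (lineV p (12 * b + l)))

/-- Lines in different frames of a triple are not orthogonal. -/
noncomputable def orthB : Bool :=
  (List.range 10).all fun p => (List.range 24).all fun l => (List.range 24).all fun m =>
    !Nat.beq (hermC (lineV p l) (lineV p m)) 0 || !Nat.beq (l / 12) (m / 12) || Nat.beq (l / 3 % 4) (m / 3 % 4)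

/-- The number of columns of a frame not orthogonal to a vector. -/
def meetCount (g v : ℕ) : ℕ :=
  (hermC v (colC g 0) + 3) / 4 + (hermC v (colC g 1) + 3) / 4 + (hermC v (colC g 2) + 3) / 4 +
    (hermC v (colC g 3) + 3) / 4 + (hermC v (colC g 4) + 3) / 4 + (hermC v (colC g 5) + 3) / 4

/-- An exponent vector by its index. -/
def expDig (e i : ℕ) : ℕ :=
  bif Nat.blt i 5 then e / 3 ^ i % 3
  else (15 - (e % 3 + e / 3 % 3 + e / 9 % 3 + e / 27 % 3 + e / 81 % 3)) % 3

/-- The outcome for a pair of frames. -/
noncomputable def witB : Bool :=
  (List.range 10).all fun p => (List.range 4).all fun ka => (List.range 4).all fun kb =>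
    let w := frameWit.getD (16 * p + 4 * ka + kb) 0
    bif Nat.blt w 90 then
      fN (candM w) fun g => (List.range 6).all fun r => Nat.ble (meetCount g (lineV p (sixLine ka kb r))) 1
    else
      Nat.blt (w - 90) 243 &&
      ((List.range 6).all fun r => (List.range 6).all fun i => (List.range 6).all fun k =>
        Nat.beq (vdig (lineV p (sixLine ka kb r)) i) 0 || Nat.beq (vdig (lineV p (sixLine ka kb r)) k) 0 ||
          Nat.beq (expDig (w - 90) i) (expDig (w - 90) k)) &&
      (List.range 6).any fun i => (List.range 6).any fun k =>
        Nat.beq (blockOf p i) (blockOf p k) && !Nat.beq (expDig (w - 90) i) (expDig (w - 90) k)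

/-- The words are admissible. -/
noncomputable def candB : Bool :=
  Nat.beq candWords.length 90 && candWords.all fun c => Nat.blt c.1 3 && c.2.all fun k => Nat.blt k 16

theorem pos_ok : posB = true := by decide +kernel

theorem cover_ok : coverB = true := by decide +kernel

theorem orth_ok : orthB = true := by decide +kernel

theorem wit_ok : witB = true := by decide +kernel

theorem cand_ok : candB = true := by decide +kernel

/-- The positions of the nonzero entries, one in each column. -/
noncomputable def evenB : Bool :=
  (List.range 3).all fun c => (List.range 8).all fun k => monB ((evenMats.getD c []).getD k 0)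

theorem even_mono : evenB = true := by decide +kernel

end Cfsg.Lib.SUSixU43
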