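import Cfsg.Agent.Lib.SUSixU43.ModelFacts
import Cfsg.Agent.Lib.SUSixU43.FrameCheck

/-! Frames sharing a diagonal element with two eigenspaces of dimension three. -/

set_option autoImplicit false
set_option maxRecDepth 20000

namespace Cfsg.Lib.SUSixU43

open Cfsg Matrix Equiv Cfsg.Lib.PermAut

theorem mem_N6_of_cols {g : G6} (h : ∀ j i i', mm g i j ≠ 0 → mm g i' j ≠ 0 → i = i') : g ∈ N6 := mono_of_cols h

attribute [local irreducible] mulM starM mat monB evenG farG N6 Zc

/-- A far frame as an element. -/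
noncomputable def candG (j : ℕ) : G6 :=
  ((candWords.getD j (0, [])).2.map (evenLet (candWords.getD j (0, [])).1)).prod * farG (candWords.getD j (0, [])).1

theorem evenLet_mm {c k : ℕ} (hc : c < 3) (hk : k < 16) : mm (evenLet c k) = mat (evenM c k) :=
  (evenLet_spec (H := (⊤ : Subgroup G6)) hc hk fun _ _ => ⟨Subgroup.mem_top _, Subgroup.mem_top _⟩).2.2

theorem cand_bounds {j : ℕ} (hj : j < 90) :
    (candWords.getD j (0, [])).1 < 3 ∧ ∀ k ∈ (candWords.getD j (0, [])).2, k < 16 := by
  have h := cand_ok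
  simp only [candB, Bool.and_eq_true, Nat.beq_eq, List.all_eq_true, Nat.blt, Nat.ble_eq] at h
  have hm := h.2 _ (getD_mem (0, []) (show j < candWords.length by omega))
  exact ⟨hm.1, fun k hk => hm.2 k hk⟩

theorem mm_candG {j : ℕ} (hj : j < 90) : mm (candG j) = mat (candM j) := by
  obtain ⟨hc, hk⟩ := cand_bounds hj
  rw [candG, candM, map_mul, mat_mulM, mm_farG hc,
    mm_prod (f := evenM (candWords.getD j (0, [])).1) fun k hk' => evenLet_mm hc (hk k hk')]

theorem vdig_pack {f : ℕ → ℕ} {i : ℕ} (hi : i < 6) : vdig (pack 6 f) i = f i % 4 := pack_digit 6 f i hi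

theorem vdig_lt (v i : ℕ) : vdig v i < 4 := Nat.mod_lt _ (by norm_num)

theorem el_hermC (u v : ℕ) : el (hermC u v) = ∑ i : Fin 6, el (vdig u i) * el (vdig v i) ^ 2 := by
  rw [hermC, el_dot6]
  simp only [el_cj]

theorem hermC_lt (u v : ℕ) : hermC u v < 4 := by
  have hx : ∀ a b, adC a b < 4 := fun a b => by
    have := Nat.xor_lt_two_pow (n := 2) (Nat.mod_lt a (by norm_num : 4 > 0)) (Nat.mod_lt b (by norm_num : 4 > 0))
    simpa [adC] using this
  exact hx _ _

theorem blockOf_lt (p i : ℕ) : blockOf p i < 2 := by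
  rw [blockOf]
  cases Nat.beq (posAt p 0) i || Nat.beq (posAt p 1) i || Nat.beq (posAt p 2) i <;> decide

theorem pos_spec {p : ℕ} (hp : p < 10) (i : ℕ) (hi : i < 6) :
    posAt p i < 6 ∧ ∃ k < 6, posAt p k = i ∧ k / 3 = blockOf p i := by
  have h := pos_ok
  simp only [posB, List.all_eq_true, List.mem_range, Bool.and_eq_true, List.any_eq_true, Nat.blt, Nat.ble_eq,
    Nat.beq_eq] at h
  obtain ⟨h1, k, hk, h2⟩ := h p hp i hi
  exact ⟨h1, k, hk, h2.1, h2.2⟩

theorem pos_block : ∀ p < 10, ∀ k < 6, blockOf p (posAt p k) = k / 3 := by decide +kernel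

theorem pos_inj : ∀ p < 10, ∀ k < 6, ∀ k' < 6, posAt p k = posAt p k' → k = k' := by decide +kernel

/-- A vector supported by one triple comes from three coordinates. -/
theorem eq_spread {p : ℕ} (hp : p < 10) {v b : ℕ} (hb : b < 2)
    (h : ∀ i < 6, vdig v i ≠ 0 → blockOf p i = b) :
    ∀ i < 6, vdig (spread p b (vdig v (posAt p (3 * b)) + 4 * vdig v (posAt p (3 * b + 1)) +
      16 * vdig v (posAt p (3 * b + 2)))) i = vdig v i := by
  intro i hi
  set a0 := vdig v (posAt p (3 * b)) with e0
  set a1 := vdig v (posAt p (3 * b + 1)) with e1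
  set a2 := vdig v (posAt p (3 * b + 2)) with e2
  have l0 : a0 < 4 := vdig_lt _ _
  have l1 : a1 < 4 := vdig_lt _ _
  have l2 : a2 < 4 := vdig_lt _ _
  have d0 : vdig (a0 + 4 * a1 + 16 * a2) 0 = a0 := by simp only [vdig, pow_zero, Nat.div_one]; omega
  have d1 : vdig (a0 + 4 * a1 + 16 * a2) 1 = a1 := by simp only [vdig, pow_one]; omega
  have d2 : vdig (a0 + 4 * a1 + 16 * a2) 2 = a2 := by simp only [vdig]; omega
  rw [spread, d0, d1, d2]
  have key : ∀ p < 10, ∀ b < 2, ∀ i < 6, ∀ x < 4, ∀ y < 4, ∀ z < 4,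
      vdig (x * 4 ^ posAt p (3 * b) + y * 4 ^ posAt p (3 * b + 1) + z * 4 ^ posAt p (3 * b + 2)) i =
        if i = posAt p (3 * b) then x else if i = posAt p (3 * b + 1) then y
        else if i = posAt p (3 * b + 2) then z else 0 := by decide +kernel
  rw [key p hp b hb i hi a0 l0 a1 l1 a2 l2]
  split_ifs with h0 h1 h2
  · rw [h0]
  · rw [h1]
  · rw [h2]
  · refine ((not_ne_iff.1 fun hne => ?_) : vdig v i = 0).symm
    obtain ⟨-, k, hk, hk1, hk2⟩ := pos_spec hp i hi
    rw [h i hi hne] at hk2
    rcases (by omega : k = 3 * b ∨ k = 3 * b + 1 ∨ k = 3 * b + 2) with rfl | rfl | rfl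
    exacts [h0 hk1.symm, h1 hk1.symm, h2 hk1.symm]

theorem hermC_congr {u u' v v' : ℕ} (hu : ∀ i < 6, vdig u i = vdig u' i) (hv : ∀ i < 6, vdig v i = vdig v' i) :
    el (hermC u v) = el (hermC u' v') := by
  rw [el_hermC, el_hermC]
  exact Finset.sum_congr rfl fun i _ => by rw [hu i i.isLt, hv i i.isLt]

/-- An exponent vector from its index. -/
theorem expDig_spec : ∀ k < 243, ∃ e : Exp, ∀ i : Fin 6, (e.1 i).val = expDig k i := by decide +kernel

/-- The classification of frames sharing the diagonal element. -/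
theorem frame_cases {g : G6} {d : Exp} {p : ℕ} (hp : p < 10)
    (hd : ∀ i k : Fin 6, blockOf p i ≠ blockOf p k → d.1 i ≠ d.1 k) (hT : g⁻¹ * dT d * g ∈ T6) :
    (∃ t : Exp, g⁻¹ * dT t * g ∈ T6 ∧ ∃ i k : Fin 6, blockOf p i = blockOf p k ∧ t.1 i ≠ t.1 k) ∨
      ∃ j < 90, (candG j)⁻¹ * g ∈ N6 := by
  classical
  obtain ⟨s, hs⟩ := mem_T6_iff.1 hT
  have hcol : ∀ i j, mm g i j ≠ 0 → d.1 i = s.1 j := by
    intro i j hij
    have he : dT d * g = g * dT s := by rw [hs]; group
    have := congrFun (congrFun (congrArg mm he) i) j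
    rw [map_mul, map_mul, mm_dT, mm_dT, Matrix.diagonal_mul, Matrix.mul_diagonal, mul_comm] at this
    exact elE_facts.2.2.2.1 _ _ (mul_left_cancel₀ hij this)
  -- each column is a multiple of a line
  let col : Fin 6 → ℕ := fun j => colC (cd g) j
  have hdig : ∀ (j i : Fin 6), el (vdig (col j) i) = mm g i j := fun j i => by
    rw [show col j = pack 6 fun k => mget (cd g) k j from rfl, vdig_pack i.isLt, el_mod, ← mat_apply, mat_cd]
  have hline : ∀ j : Fin 6, ∃ l < 24, ∃ a, (0 < a ∧ a < 4) ∧
      ∀ i : Fin 6, mm g i j = el a * el (vdig (lineV p l) i) := by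
    intro j
    obtain ⟨i0, hi0⟩ := col_ne g j
    have hsupp : ∀ i < 6, vdig (col j) i ≠ 0 → blockOf p i = blockOf p i0 := by
      intro i hi hne
      by_contra hb
      have h1 : mm g ⟨i, hi⟩ j ≠ 0 := by
        rw [← hdig, ne_eq, el_eq_zero, Nat.mod_eq_of_lt (vdig_lt _ _)]
        exact hne
      exact hd ⟨i, hi⟩ i0 hb ((hcol _ j h1).trans (hcol _ j hi0).symm)
    have hsp := eq_spread hp (blockOf_lt p i0) hsupp
    set x := vdig (col j) (posAt p (3 * blockOf p i0)) + 4 * vdig (col j) (posAt p (3 * blockOf p i0 + 1)) +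
      16 * vdig (col j) (posAt p (3 * blockOf p i0 + 2)) with hx
    have hx64 : x < 64 := by
      have a := vdig_lt (col j) (posAt p (3 * blockOf p i0))
      have b := vdig_lt (col j) (posAt p (3 * blockOf p i0 + 1))
      have c := vdig_lt (col j) (posAt p (3 * blockOf p i0 + 2))
      omega
    have hnorm : hermC (spread p (blockOf p i0) x) (spread p (blockOf p i0) x) = 1 := by
      have e : el (hermC (spread p (blockOf p i0) x) (spread p (blockOf p i0) x)) = el 1 := by
        rw [hermC_congr hsp hsp, el_hermC]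
        have := congrFun (congrFun (star_mul_self g) j) j
        rw [Matrix.mul_apply, Matrix.one_apply_eq] at this
        simp only [hdig, Matrix.map_apply, Matrix.transpose_apply] at this ⊢
        rw [Finset.sum_congr rfl fun i _ => mul_comm _ _, this]
        decide
      rw [el_eq_iff, Nat.mod_eq_of_lt (hermC_lt _ _)] at e
      exact e
    have hc := cover_ok
    simp only [coverB, List.all_eq_true, List.mem_range, Bool.or_eq_true, Bool.not_eq_true', List.any_eq_true,
      Nat.beq_eq] at hc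
    rcases hc p hp _ (blockOf_lt p i0) x hx64 with hf | ⟨l, hl, a, ha, e⟩
    · rw [hnorm] at hf
      exact Bool.noConfusion hf
    · refine ⟨12 * blockOf p i0 + l, by have := blockOf_lt p i0; omega, a + 1, ⟨by omega, by omega⟩, fun i => ?_⟩
      rw [← hdig, ← hsp i i.isLt, e, scaleC, vdig_pack i.isLt, el_mod, el_mu]
  choose ln hln sc hsc hgl using hline
  -- the columns in one triple lie in one frame
  have htag : ∀ j j', ln j / 12 = ln j' / 12 → ln j / 3 % 4 = ln j' / 3 % 4 := by
    intro j j' hb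
    rcases eq_or_ne j j' with rfl | hne
    · rfl
    have hh : hermC (lineV p (ln j)) (lineV p (ln j')) = 0 := by
      have := congrFun (congrFun (star_mul_self g) j') j
      rw [Matrix.mul_apply, Matrix.one_apply_ne (Ne.symm hne)] at this
      simp only [Matrix.map_apply, Matrix.transpose_apply, hgl] at this
      have e : el (sc j) * el (sc j') ^ 2 * el (hermC (lineV p (ln j)) (lineV p (ln j'))) = 0 := by
        rw [el_hermC, Finset.mul_sum, ← this]
        refine Finset.sum_congr rfl fun i _ => ?_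
        ring
      have nz : ∀ j, el (sc j) ≠ 0 := fun j => by
        rw [ne_eq, el_eq_zero]
        have := hsc j
        omega
      rcases mul_eq_zero.1 e with h | h
      · rcases mul_eq_zero.1 h with h | h
        exacts [absurd h (nz j), absurd ((pow_eq_zero_iff (by norm_num)).1 h) (nz j')]
      · rwa [el_eq_zero, Nat.mod_eq_of_lt (hermC_lt _ _)] at h
    have ho := orth_ok
    simp only [orthB, List.all_eq_true, List.mem_range, Bool.or_eq_true, Bool.not_eq_true', Nat.beq_eq] at ho
    rcases ho p hp _ (hln j) _ (hln j') with (h1 | h1) | h1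
    · rw [hh] at h1
      exact Bool.noConfusion h1
    · rw [hb] at h1
      have : Nat.beq (ln j' / 12) (ln j' / 12) = true := Nat.beq_refl _
      rw [h1] at this
      exact Bool.noConfusion this
    · exact h1
  have hfr : ∀ b, ∃ k < 4, ∀ j, ln j / 12 = b → ln j / 3 % 4 = k := by
    intro b
    by_cases h : ∃ j, ln j / 12 = b
    · obtain ⟨j, hj⟩ := h
      exact ⟨ln j / 3 % 4, Nat.mod_lt _ (by norm_num), fun j' hj' => htag j' j (hj'.trans hj.symm)⟩
    · exact ⟨0, by norm_num, fun j hj => absurd ⟨j, hj⟩ h⟩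
  obtain ⟨ka, hka, hA⟩ := hfr 0
  obtain ⟨kb, hkb, hB⟩ := hfr 1
  have hr : ∀ j, ∃ r < 6, ln j = sixLine ka kb r := by
    intro j
    have := hln j
    by_cases h : ln j / 12 = 0
    · have := hA j h
      refine ⟨ln j % 3, by omega, ?_⟩
      rw [sixLine, show Nat.blt (ln j % 3) 3 = true by simp only [Nat.blt, Nat.ble_eq]; omega]
      show ln j = 3 * ka + ln j % 3
      omega
    · have := hB j (by omega)
      refine ⟨3 + ln j % 3, by omega, ?_⟩
      rw [sixLine, show Nat.blt (3 + ln j % 3) 3 = false by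
        simp only [Nat.blt, Bool.eq_false_iff, ne_eq, Nat.ble_eq]; omega]
      show ln j = 12 + 3 * kb + (3 + ln j % 3 - 3)
      omega
  choose rr hrr hlr using hr
  have hw := wit_ok
  simp only [witB, List.all_eq_true, List.mem_range] at hw
  have hw := hw p hp ka hka kb hkb
  set w := frameWit.getD (16 * p + 4 * ka + kb) 0
  by_cases hlt : w < 90
  · right
    refine ⟨w, hlt, mem_N6_of_cols fun j k k' hk hk' => by_contra fun hne => ?_⟩
    rw [show Nat.blt w 90 = true by simp only [Nat.blt, Nat.ble_eq]; omega, cond_true, fN_eq] at hw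
    simp only [List.all_eq_true, List.mem_range, Nat.ble_eq] at hw
    have hcount := hw (rr j) (hrr j)
    rw [← hlr j] at hcount
    have hent : ∀ k : Fin 6, mm ((candG w)⁻¹ * g) k j = el (sc j) * el (hermC (lineV p (ln j)) (colC (candM w) k)) := by
      intro k
      rw [map_mul, mm_inv, mm_candG hlt, Matrix.mul_apply, el_hermC, Finset.mul_sum]
      refine Finset.sum_congr rfl fun i _ => ?_
      rw [Matrix.map_apply, Matrix.transpose_apply, hgl, colC, vdig_pack i.isLt, el_mod, mat_apply]
      ring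
    have hpos : ∀ k : Fin 6, mm ((candG w)⁻¹ * g) k j ≠ 0 → hermC (lineV p (ln j)) (colC (candM w) k) ≠ 0 := by
      intro k hk h0
      rw [hent k, h0] at hk
      exact hk (mul_eq_zero_of_right _ ((el_eq_zero 0).2 rfl))
    have h1 := hpos k hk
    have h2 := hpos k' hk'
    have b := fun k => hermC_lt (lineV p (ln j)) (colC (candM w) k)
    simp only [meetCount] at hcount
    have b0 := b 0; have b1 := b 1; have b2 := b 2; have b3 := b 3; have b4 := b 4; have b5 := b 5
    fin_cases k <;> fin_cases k' <;> first | exact hne rfl | (simp only at h1 h2; omega)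
  · left
    rw [show Nat.blt w 90 = false by simp only [Nat.blt, Bool.eq_false_iff, ne_eq, Nat.ble_eq]; omega,
      cond_false] at hw
    simp only [Bool.and_eq_true, List.all_eq_true, List.any_eq_true, List.mem_range, Bool.or_eq_true, Nat.beq_eq,
      Bool.not_eq_true', Nat.blt, Nat.ble_eq] at hw
    obtain ⟨⟨he, hall⟩, i, hi, k, hk, hb, hneq⟩ := hw
    obtain ⟨t, ht⟩ := expDig_spec (w - 90) he
    refine ⟨t, mem_T6.2 fun a b hab => ?_, ⟨i, hi⟩, ⟨k, hk⟩, hb, fun e => ?_⟩
    · obtain ⟨i0, hi0⟩ := col_ne g b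
      have hrow : ∀ i : Fin 6, mm (dT t * g) i b = elE (t.1 i0) * mm g i b := fun i => by
        rw [map_mul, mm_dT, Matrix.diagonal_mul]
        rcases eq_or_ne (mm g i b) 0 with h0 | h0
        · simp [h0]
        have dig : ∀ i : Fin 6, mm g i b ≠ 0 → vdig (lineV p (sixLine ka kb (rr b))) i ≠ 0 := fun i hi hz => by
          rw [hgl, hlr b, hz] at hi
          exact hi (mul_eq_zero_of_right _ ((el_eq_zero 0).2 rfl))
        rcases hall (rr b) (hrr b) i i.isLt i0 i0.isLt with (h | h) | h
        · exact absurd h (dig i h0)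
        · exact absurd h (dig i0 hi0)
        · rw [ZMod.val_injective 3 ((ht i).trans (h.trans (ht i0).symm))]
      rw [mul_assoc, map_mul, Matrix.mul_apply, Finset.sum_congr rfl fun i _ => by rw [hrow i, mul_left_comm],
        ← Finset.mul_sum]
      have : ∑ i, mm g⁻¹ a i * mm g i b = 0 := by
        rw [← Matrix.mul_apply, ← map_mul, inv_mul_cancel, map_one, Matrix.one_apply_ne hab]
      rw [this, mul_zero]
    · have e1 := ht ⟨i, hi⟩
      have e2 := ht ⟨k, hk⟩
      rw [e, e2] at e1
      simp only at e1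
      rw [e1] at hneq
      have : Nat.beq (expDig (w - 90) i) (expDig (w - 90) i) = true := Nat.beq_refl _
      rw [hneq] at this
      exact Bool.noConfusion this

end Cfsg.Lib.SUSixU43
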