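import Cfsg.Agent.Lib.SUSixU43.UniqueModel
import Cfsg.Agent.Lib.SUSixU43.Conj
import Cfsg.Agent.Lib.MinusSix.Main

/-! The three classes over the model field. -/

set_option autoImplicit false
set_option maxRecDepth 20000

namespace Cfsg.Lib.SUSixU43

open Cfsg Equiv Cfsg.Lib.PermAut
open Cfsg.Lib.PermAut.MclPsu (R9)

attribute [local irreducible] KM T6 N6 C6 S6 phi Zc

section Generic

variable {G X : Type} [Group G] [Group X]

theorem isCover_of_hom {K : Subgroup G} {P : Type} [Group P] (f : ↥K →* P) {R : Subgroup P} (hr : f.range = R)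
    (hR : Subgroup.center ↥R = ⊥) (C : Subgroup G) (hC : C ≤ K) (hker : ∀ x : ↥K, f x = 1 ↔ (x : G) ∈ C)
    (hcomm : ∀ z ∈ C, ∀ g : G, z * g = g * z) (hcard : Nat.card ↥C = 3) (e : ↥R ≃* X) : IsCover X K := by
  have hz : Subgroup.center ↥K = f.ker := center_eq_ker_of_range f hr hR fun x hx y =>
    Subtype.ext (hcomm _ ((hker x).1 hx) (y : G)).symm
  refine ⟨?_, ?_⟩
  · rw [hz, ← hcard, show f.ker = C.subgroupOf K from Subgroup.ext fun x =>
      MonoidHom.mem_ker.trans ((hker x).trans Subgroup.mem_subgroupOf.symm)]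
    exact Nat.card_congr (Subgroup.subgroupOfEquivOfLe hC).toEquiv
  · exact ⟨((QuotientGroup.quotientMulEquivOfEq hz).trans (QuotientGroup.quotientKerEquivRange f)).trans
      ((MulEquiv.subgroupCongr hr).trans e)⟩

theorem not_conj_of_fix [Finite G] {p n : ℕ} [Fact p.Prime] (S : Sylow p G) {T : Subgroup G}
    (huniq : ∀ E : Subgroup G, E ≤ (S : Subgroup G) → GoodSub (p ^ n) E → E = T) (gT : GoodSub (p ^ n) T)
    {N : Subgroup G} (hN : ∀ g : G, (∀ t ∈ T, g⁻¹ * t * g ∈ T) → g ∈ N) {A B : Subgroup G} (hA : T ≤ A)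
    (hB : T ≤ B) (hfix : ∀ g ∈ N, A.map (MulAut.conj g).toMonoidHom = A) (hne : A ≠ B) :
    ¬ ∃ g : G, A.map (MulAut.conj g).toMonoidHom = B := by
  rintro ⟨g, hg⟩
  have inj : Function.Injective (MulAut.conj g).toMonoidHom := EquivLike.injective (MulAut.conj g)
  obtain ⟨h, hh, he⟩ := exists_conj_in_sub S huniq (K := B) (hg ▸ Subgroup.map_mono hA) hB (gT.map inj) gT
  rw [map_conj_conj] at he
  have hfx := hfix _ (hN _ (conj_mem_of_map_eq he))
  rw [← map_conj_conj, hg, map_conj_eq_of_normalizer (Subgroup.le_normalizer hh)] at hfx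
  exact hne hfx.symm

/-- The map of a cover to a model of its quotient. -/
theorem exists_theta {P : Type} [Group P] {K : Subgroup G} (R : Subgroup P)
    (e : Nonempty (↥K ⧸ Subgroup.center ↥K ≃* ↥R)) :
    ∃ f : ↥K →* P, f.ker = Subgroup.center ↥K ∧ f.range = R := by
  obtain ⟨e⟩ := e
  refine ⟨R.subtype.comp (e.toMonoidHom.comp (QuotientGroup.mk' (Subgroup.center ↥K))), ?_, ?_⟩
  · ext x
    simp
  · ext y
    constructor
    · rintro ⟨x, rfl⟩
      exact SetLike.coe_mem _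
    · intro hy
      obtain ⟨x, hx⟩ := QuotientGroup.mk_surjective (e.symm ⟨y, hy⟩)
      exact ⟨x, by simp [hx]⟩

theorem transport_theta {P : Type} [Group P] {K : Subgroup G} (f : ↥K →* P) (g : G)
    (hker : f.ker = Subgroup.center ↥K) :
    ∃ f' : ↥(K.map (MulAut.conj g).toMonoidHom) →* P, f'.ker = Subgroup.center ↥(K.map (MulAut.conj g).toMonoidHom) ∧
      f'.range = f.range ∧
      ∀ E : Subgroup P, (E.comap f').map (K.map (MulAut.conj g).toMonoidHom).subtype =
        ((E.comap f).map K.subtype).map (MulAut.conj g).toMonoidHom := by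
  let v : ↥K ≃* ↥(K.map (MulAut.conj g).toMonoidHom) :=
    K.equivMapOfInjective (MulAut.conj g).toMonoidHom (EquivLike.injective (MulAut.conj g))
  refine ⟨f.comp v.symm.toMonoidHom, ?_, ?_, fun E => ?_⟩
  · rw [← map_center_equiv v, ← hker]
    ext x
    obtain ⟨y, rfl⟩ := v.surjective x
    rw [Subgroup.mem_map_equiv, MonoidHom.mem_ker, MonoidHom.mem_ker]
    rfl
  · ext y
    constructor
    · rintro ⟨x, rfl⟩
      exact ⟨_, rfl⟩
    · rintro ⟨x, rfl⟩
      exact ⟨v x, congrArg f (v.symm_apply_apply x)⟩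
  · ext x
    constructor
    · rintro ⟨y, hy, rfl⟩
      obtain ⟨z, rfl⟩ := v.surjective y
      refine ⟨z, ⟨z, ?_, rfl⟩, rfl⟩
      have h : f (v.symm (v z)) ∈ E := hy
      rwa [v.symm_apply_apply] at h
    · rintro ⟨_, ⟨z, hz, rfl⟩, rfl⟩
      refine ⟨v z, ?_, rfl⟩
      show f (v.symm (v z)) ∈ E
      rw [v.symm_apply_apply]
      exact hz

end Generic

theorem good_T6 : @GoodSub G6 _ (3 ^ 5) T6 := by
  refine ⟨fun a ha b hb => ?_, card_T6.trans (by norm_num)⟩
  obtain ⟨e, rfl⟩ := mem_T6_iff.1 ha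
  obtain ⟨f, rfl⟩ := mem_T6_iff.1 hb
  rw [dT_mul, dT_mul]
  exact congrArg dT (Subtype.ext (add_comm e.1 f.1))

theorem uniq_S6 : ∀ E : Subgroup G6, E ≤ (syl6 : Subgroup G6) → @GoodSub G6 _ (3 ^ 5) E → E = T6 :=
  fun _ hE hg => eq_T6_of_le_S6 hE hg.1 (hg.2.trans (by norm_num))

theorem KM_not_conj {a b : ℕ} (ha : a < 3) (hb : b < 3) (hd : diffB a b = true) :
    ¬ ∃ g : G6, (KM a).map (MulAut.conj g).toMonoidHom = KM b :=
  haveI := finite_G6
  haveI : Fact (Nat.Prime 3) := ⟨Nat.prime_three⟩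
  @not_conj_of_fix G6 _ _ 3 5 _ syl6 T6 uniq_S6 good_T6 N6 (fun _ h => mono_of_normal h) (KM a) (KM b)
    (T6_le_KM ha) (T6_le_KM hb) (fun _ hg => N6_normalizes ha hg) (KM_ne ha hb hd)

theorem KM_cover {X : Type} [Group X] (e : ↥Q112 ≃* X) {c : ℕ} (hc : c < 3) : IsCover X (KM c) :=
  @isCover_of_hom G6 X _ _ (KM c) (Perm (Fin 112)) _ (phi hc) Q112 (phi_range hc) center_Q112 C6 (C6_le_KM c)
    (fun _ => ⟨ker_phi hc, phi_C6 hc⟩) (fun _ hz => C6_comm hz) card_C6 e

theorem exists_conj_model {X : Type} [Group X] (e : ↥Q112 ≃* X) {K : Subgroup G6} (hK : IsCover X K) :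
    ∃ g : G6, ∃ c < 3, K.map (MulAut.conj g).toMonoidHom = KM c := by
  haveI := finite_G6
  obtain ⟨θ, hker, hr⟩ := @exists_theta G6 _ (Perm (Fin 112)) _ K Q112 (hK.2.map fun f => f.trans e.symm)
  obtain ⟨g, hg⟩ := exists_conj_T6 (radK_comm θ hker hr hK.1) (card_radK θ hker hr hK.1)
  obtain ⟨θ', hker', hr', hE⟩ := @transport_theta G6 _ (Perm (Fin 112)) _ K θ g hker
  have hK' : IsCover X (K.map (MulAut.conj g).toMonoidHom) := hK.map (MulAut.conj g)
  have hT : radK θ' = T6 := (hE E112).trans hg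
  obtain ⟨c, hc, hle⟩ := exists_model_le θ' hker' (hr'.trans hr) hK'.1 hT
  refine ⟨g, c, hc, (Subgroup.eq_of_le_of_card_ge hle ?_).symm⟩
  have hm := KM_cover e hc
  rw [center_card_mul _ hK'.1 hK'.2, center_card_mul _ hm.1 hm.2]

theorem threeClasses {X : Type} [Group X] (e : ↥Q112 ≃* X) : ThreeClasses G6 X := by
  have hd := diff_ok
  simp only [Bool.and_eq_true] at hd
  refine ⟨KM 0, KM 1, KM 2, ?_, KM_not_conj (by norm_num) (by norm_num) hd.1.1,
    KM_not_conj (by norm_num) (by norm_num) hd.1.2, KM_not_conj (by norm_num) (by norm_num) hd.2, fun K hK => ?_⟩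
  · simp only [List.mem_cons, List.not_mem_nil, or_false]
    rintro K (rfl | rfl | rfl)
    exacts [KM_cover e (by norm_num), KM_cover e (by norm_num), KM_cover e (by norm_num)]
  · obtain ⟨g, c, hc, hg⟩ := exists_conj_model e hK
    refine ⟨g, ?_⟩
    interval_cases c
    exacts [Or.inl hg, Or.inr (Or.inl hg), Or.inr (Or.inr hg)]

/-- `SU` over isomorphic fields. -/
theorem su_congr {K L : Type} [Field K] [Field L] (e : K ≃+* L) (n q : ℕ) :
    Nonempty (↥(SU n K q) ≃* ↥(SU n L q)) :=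
  ⟨{ toFun := fun g => ⟨Matrix.SpecialLinearGroup.map e.toRingHom g.1, Cfsg.Lib.MinusSix.su_map_mem e g.2⟩
     invFun := fun g => ⟨Matrix.SpecialLinearGroup.map e.symm.toRingHom g.1, Cfsg.Lib.MinusSix.su_map_mem e.symm g.2⟩
     left_inv := fun g => Subtype.ext (by ext i j; simp)
     right_inv := fun g => Subtype.ext (by ext i j; simp)
     map_mul' := fun g h => Subtype.ext (map_mul _ g.1 h.1) }⟩

/-- The three classes over any fields of the right orders. -/
theorem threeClasses_any (F : Type) [Field F] [Fintype F] (hF : Fintype.card F = 4) (F9 : Type) [Field F9]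
    [Fintype F9] (hF9 : Fintype.card F9 = 9) : ThreeClasses ↥(SU 6 F 2) (PSU 4 F9 3) := by
  obtain ⟨e0⟩ := psu_equiv_Q112
  obtain ⟨e1⟩ := Cfsg.Lib.MinusSix.psu_congr (FiniteField.ringEquivOfCardEq (MclPsu.card_r9.trans hF9.symm)) 4 3
  obtain ⟨v⟩ := su_congr (FiniteField.ringEquivOfCardEq (card_r4.trans hF.symm)) 6 2
  exact (threeClasses (e0.symm.trans e1)).map v

end Cfsg.Lib.SUSixU43
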