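import Cfsg.Agent.Lib.SUSixU43.Mono
import Cfsg.Agent.Lib.Linear.HermStandard

/-! A Sylow three-subgroup and its only elementary abelian subgroup of order 243. -/

set_option autoImplicit false
set_option maxRecDepth 20000

namespace Cfsg.Lib.SUSixU43

open Cfsg Matrix

/-- The first three-cycle. -/
def cycA : Equiv.Perm (Fin 6) := Equiv.swap 0 1 * Equiv.swap 1 2

/-- The second three-cycle. -/
def cycB : Equiv.Perm (Fin 6) := Equiv.swap 3 4 * Equiv.swap 4 5

/-- The matrix of the first three-cycle. -/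
def matA : ℕ :=
  1180663682709562855440

/-- The matrix of the second three-cycle. -/
def matB : ℕ :=
  295165989946874937345

theorem cyc_ok : (suB matA && permB matA cycA && suB matB && permB matB cycB) = true := by decide +kernel

/-- The list of the group of the three-cycles. -/
def cycList : List (Equiv.Perm (Fin 6)) :=
  [1, cycA, cycA * cycA, cycB, cycA * cycB, cycA * cycA * cycB, cycB * cycB, cycA * (cycB * cycB),
    cycA * cycA * (cycB * cycB)]

theorem cyc_closed : (∀ p ∈ cycList, cycA * p ∈ cycList ∧ cycB * p ∈ cycList) ∧ cycList.Nodup ∧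
    cycList.length = 9 ∧ cycA ^ 3 = 1 ∧ cycB ^ 3 = 1 := by decide +kernel

/-- The fixed exponent vectors of one three-cycle are at most 27, those of both at most 9. -/
theorem fix_counts : (∀ p ∈ cycList, p ≠ 1 →
      (Finset.univ.filter fun e : Exp => ∀ i, e.1 (p i) = e.1 i).card ≤ 27) ∧
    (Finset.univ.filter fun e : Exp => (∀ i, e.1 (cycA i) = e.1 i) ∧ ∀ i, e.1 (cycB i) = e.1 i).card ≤ 9 := by
  decide +kernel

/-- The group of the three-cycles. -/
def cycGrp : Subgroup (Equiv.Perm (Fin 6)) := Subgroup.closure {cycA, cycB}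

theorem mem_cycGrp {p : Equiv.Perm (Fin 6)} (hp : p ∈ cycGrp) : p ∈ cycList := by
  obtain ⟨h, -, -, ha, hb⟩ := cyc_closed
  induction hp using Subgroup.closure_induction_left with
  | one => exact List.mem_cons_self ..
  | mul_left s hs y _ ih =>
    rcases hs with rfl | rfl
    exacts [(h y ih).1, (h y ih).2]
  | inv_mul_cancel s hs y _ ih =>
    rcases hs with rfl | rfl
    · rw [show cycA⁻¹ = cycA * cycA from inv_eq_of_mul_eq_one_right (by rw [← ha, pow_succ, pow_two, mul_assoc]), mul_assoc]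
      exact (h _ (h y ih).1).1
    · rw [show cycB⁻¹ = cycB * cycB from inv_eq_of_mul_eq_one_right (by rw [← hb, pow_succ, pow_two, mul_assoc]), mul_assoc]
      exact (h _ (h y ih).2).2

theorem card_cycGrp : Nat.card ↥cycGrp = 9 := by
  obtain ⟨h, hn, hl, -, -⟩ := cyc_closed
  have e : (cycGrp : Set (Equiv.Perm (Fin 6))) = ↑cycList.toFinset := by
    ext p
    simp only [SetLike.mem_coe, List.coe_toFinset, Set.mem_ofPred_eq]
    refine ⟨mem_cycGrp, fun hp => ?_⟩
    have ha : cycA ∈ cycGrp := Subgroup.subset_closure (by simp)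
    have hb : cycB ∈ cycGrp := Subgroup.subset_closure (by simp)
    simp only [cycList, List.mem_cons, List.not_mem_nil, or_false] at hp
    rcases hp with rfl | rfl | rfl | rfl | rfl | rfl | rfl | rfl | rfl
    exacts [one_mem _, ha, mul_mem ha ha, hb, mul_mem ha hb, mul_mem (mul_mem ha ha) hb, mul_mem hb hb,
      mul_mem ha (mul_mem hb hb), mul_mem (mul_mem ha ha) (mul_mem hb hb)]
  rw [← SetLike.coe_sort_coe, Nat.card_coe_set_eq, e, Set.ncard_coe_finset, List.toFinset_card_of_nodup hn, hl]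

/-- A Sylow three-subgroup. -/
noncomputable def S6 : Subgroup G6 := (cycGrp.comap perN).map N6.subtype

theorem cyc_le_range : cycGrp ≤ perN.range := by
  have h := cyc_ok
  simp only [Bool.and_eq_true] at h
  refine (Subgroup.closure_le _).2 ?_
  rintro p (rfl | rfl)
  · obtain ⟨g, hg⟩ := exists_of_suB h.1.1.1
    obtain ⟨hn, e⟩ := perN_of_permB hg h.1.1.2
    exact ⟨_, e⟩
  · obtain ⟨g, hg⟩ := exists_of_suB h.1.2
    obtain ⟨hn, e⟩ := perN_of_permB hg h.2
    exact ⟨_, e⟩

theorem card_ker_perN : Nat.card ↥perN.ker = 243 := by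
  rw [← card_T6, T6]
  exact Nat.card_congr (perN.ker.equivMapOfInjective _ N6.subtype_injective).toEquiv

theorem card_S6 : Nat.card ↥S6 = 2187 := by
  rw [S6, ← Nat.card_congr ((cycGrp.comap perN).equivMapOfInjective _ N6.subtype_injective).toEquiv]
  let f : ↥(cycGrp.comap perN) →* ↥cycGrp :=
    (perN.comp (cycGrp.comap perN).subtype).codRestrict cycGrp fun g => g.2
  have hsurj : Function.Surjective f := by
    rintro ⟨p, hp⟩
    obtain ⟨g, rfl⟩ := cyc_le_range hp
    exact ⟨⟨g, hp⟩, rfl⟩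
  have hk : Nat.card ↥f.ker = 243 := by
    rw [← card_ker_perN]
    exact Nat.card_congr
      { toFun := fun g => ⟨g.1.1, congrArg Subtype.val (MonoidHom.mem_ker.1 g.2)⟩
        invFun := fun g => ⟨⟨g.1, by rw [Subgroup.mem_comap, MonoidHom.mem_ker.1 g.2]; exact one_mem _⟩,
          Subtype.ext (MonoidHom.mem_ker.1 g.2)⟩
        left_inv := fun _ => rfl
        right_inv := fun _ => rfl }
  have h := Subgroup.card_mul_index f.ker
  rw [Subgroup.index_ker, MonoidHom.range_eq_top.2 hsurj, Subgroup.card_top, hk, card_cycGrp] at h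
  omega

theorem card_G6 : Nat.card G6 = 27590492160 := by
  have h := Cfsg.Lib.Linear.Herm.card_SU (F := R4) (q := 2) (show Fintype.card R4 = 2 ^ 2 from card_r4) (n := 6)
    (by norm_num)
  rw [Cfsg.Lib.Linear.Herm.card_GU (show Fintype.card R4 = 2 ^ 2 from card_r4)] at h
  norm_num [Finset.prod_range_succ] at h
  show Nat.card ↥(SU 6 R4 2) = _
  omega

theorem finite_G6 : Finite G6 := Nat.finite_of_card_ne_zero (by rw [card_G6]; norm_num)

theorem T6_le_S6 : T6 ≤ S6 := by
  rintro g ⟨n, hn, rfl⟩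
  exact ⟨n, by rw [SetLike.mem_coe, Subgroup.mem_comap, MonoidHom.mem_ker.1 hn]; exact one_mem _, rfl⟩

/-- An elementary abelian group of order 243 in the Sylow subgroup is the diagonal one. -/
theorem eq_T6_of_le_S6 {E : Subgroup G6} (hE : E ≤ S6) (hc : ∀ a ∈ E, ∀ b ∈ E, a * b = b * a)
    (h243 : Nat.card ↥E = 243) : E = T6 := by
  classical
  have := finite_G6
  have hEN : E ≤ N6 := fun g hg => by
    obtain ⟨n, -, rfl⟩ := hE hg
    exact n.2
  let f : ↥E →* Equiv.Perm (Fin 6) := perN.comp (Subgroup.inclusion hEN)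
  have hrange : f.range ≤ cycGrp := by
    rintro _ ⟨g, rfl⟩
    obtain ⟨n, hn, e⟩ := hE g.2
    have : Subgroup.inclusion hEN g = n := Subtype.ext e.symm
    show perN _ ∈ cycGrp
    rw [this]
    exact hn
  have hker : ∀ g : ↥E, g ∈ f.ker → (g : G6) ∈ T6 := fun g hg => ⟨_, hg, rfl⟩
  by_cases hbot : f.range = ⊥
  · refine Subgroup.eq_of_le_of_card_ge (fun g hg => hker ⟨g, hg⟩ ?_) (by rw [h243, card_T6])
    have : f ⟨g, hg⟩ ∈ f.range := ⟨_, rfl⟩
    rw [hbot, Subgroup.mem_bot] at this
    exact this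
  exfalso
  -- the kernel embeds in the fixed vectors of every image
  choose ex hex using fun g : ↥f.ker => mem_T6_iff.1 (hker g.1 g.2)
  have hinj : Function.Injective ex := fun a b h => Subtype.ext (Subtype.ext (by rw [← hex a, ← hex b, h]))
  have hfix : ∀ (g : ↥f.ker) (p : Equiv.Perm (Fin 6)), p ∈ f.range → ∀ i, (ex g).1 (p i) = (ex g).1 i := by
    rintro g _ ⟨b, rfl⟩ i
    have hcomm := conj_dT (Subgroup.inclusion hEN b) (ex g)
    rw [hex g, show ((Subgroup.inclusion hEN b : ↥N6) : G6) = (b : G6) from rfl, hc _ b.2 _ g.1.2,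
      mul_inv_cancel_right] at hcomm
    have e := congrFun (congrArg Subtype.val (dT_inj ((hex g).trans hcomm))) (f b i)
    rw [show f b = perN (Subgroup.inclusion hEN b) from rfl] at e ⊢
    simpa using e
  have bound : ∀ (P : Exp → Prop) [DecidablePred P], (∀ g, P (ex g)) →
      Nat.card ↥f.ker ≤ (Finset.univ.filter P).card := by
    intro P _ hP
    calc Nat.card ↥f.ker ≤ Nat.card {e : Exp // P e} :=
          Nat.card_le_card_of_injective (fun g => ⟨ex g, hP g⟩) fun a b h => hinj (congrArg Subtype.val h)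
      _ = _ := by rw [Nat.card_eq_fintype_card, Fintype.card_subtype]
  obtain ⟨⟨p, hp⟩, hne⟩ := Subgroup.ne_bot_iff_exists_ne_one.1 hbot
  have hp1 : p ≠ 1 := fun e => hne (Subtype.ext e)
  have h27 := (bound (fun e => ∀ i, e.1 (p i) = e.1 i) fun g => hfix g p hp).trans
    (fix_counts.1 p (mem_cycGrp (hrange hp)) hp1)
  have hmul := Subgroup.card_mul_index f.ker
  rw [Subgroup.index_ker, h243] at hmul
  have hdvd : Nat.card ↥f.range ∣ 9 := card_cycGrp ▸ Subgroup.card_dvd_of_le hrange
  have hle := Nat.le_of_dvd (by norm_num) hdvd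
  rcases eq_or_ne (Nat.card ↥f.range) 9 with h9 | h9
  · have e : f.range = cycGrp := Subgroup.eq_of_le_of_card_ge hrange (by rw [card_cycGrp, h9])
    have := (bound (fun e => (∀ i, e.1 (cycA i) = e.1 i) ∧ ∀ i, e.1 (cycB i) = e.1 i) fun g =>
      ⟨hfix g _ (e ▸ Subgroup.subset_closure (by simp)), hfix g _ (e ▸ Subgroup.subset_closure (by simp))⟩).trans
      fix_counts.2
    rw [h9] at hmul
    omega
  · have h3 : Nat.card ↥f.range ≤ 3 := by
      interval_cases hh : Nat.card ↥f.range <;> omega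
    have := Nat.mul_le_mul h27 h3
    omega

/-- The Sylow subgroup as such. -/
noncomputable def syl6 : Sylow 3 G6 :=
  haveI := finite_G6
  Sylow.ofCard S6 (by
    rw [card_S6, card_G6]
    rw [show (27590492160 : ℕ) = 3 ^ 7 * 12615680 by norm_num, Nat.factorization_mul (by norm_num) (by norm_num)]
    rw [Finsupp.add_apply, Nat.Prime.factorization_pow (by norm_num), Finsupp.single_eq_same,
      Nat.factorization_eq_zero_of_not_dvd (by norm_num)]
    norm_num)

/-- An elementary abelian subgroup of order 243 is conjugate to the diagonal one. -/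
theorem exists_conj_T6 {E : Subgroup G6} (hc : ∀ a ∈ E, ∀ b ∈ E, a * b = b * a) (h243 : Nat.card ↥E = 243) :
    ∃ g : G6, E.map (MulAut.conj g).toMonoidHom = T6 := by
  have := finite_G6
  have : Fact (Nat.Prime 3) := ⟨Nat.prime_three⟩
  obtain ⟨P, hP⟩ := (IsPGroup.of_card (p := 3) (n := 5) (by rw [h243]; norm_num) : IsPGroup 3 ↥E).exists_le_sylow
  obtain ⟨g, hg⟩ := MulAction.exists_smul_eq G6 P syl6
  refine ⟨g, eq_T6_of_le_S6 ?_ ?_ ?_⟩
  · rintro _ ⟨x, hx, rfl⟩
    have e : ((g • P : Sylow 3 G6) : Subgroup G6) = (syl6 : Subgroup G6) := by rw [hg]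
    show (MulAut.conj g).toMonoidHom x ∈ (syl6 : Subgroup G6)
    rw [← e]
    exact Subgroup.smul_mem_pointwise_smul x (MulAut.conj g) _ (hP hx)
  · rintro _ ⟨a, ha, rfl⟩ _ ⟨b, hb, rfl⟩
    rw [← map_mul, ← map_mul, hc a ha b hb]
  · exact (Subgroup.card_map_of_injective (f := (MulAut.conj g).toMonoidHom)
      (EquivLike.injective (MulAut.conj g))).trans h243

end Cfsg.Lib.SUSixU43
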