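import Cfsg.Agent.Lib.SUSixU43.Model
import Cfsg.Agent.Lib.SUSixU43.Sylow

/-! The kernel, order and separation of the models. -/

set_option autoImplicit false
set_option maxRecDepth 20000

namespace Cfsg.Lib.SUSixU43

section Generic

variable {G : Type} [Group G]

theorem mem_normalizer_of_gens [Finite G] {S : Set G} {s : G}
    (h : ∀ x ∈ S, s * x * s⁻¹ ∈ Subgroup.closure S) :
    s ∈ Subgroup.normalizer (Subgroup.closure S : Set G) := by
  set K := Subgroup.closure S with hK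
  have hle : K.map (MulAut.conj s).toMonoidHom ≤ K := by
    rw [hK, MonoidHom.map_closure, Subgroup.closure_le]
    rintro _ ⟨x, hx, rfl⟩
    exact h x hx
  have e := Subgroup.eq_of_le_of_card_ge hle
    (Subgroup.card_map_of_injective (f := (MulAut.conj s).toMonoidHom) (EquivLike.injective (MulAut.conj s))).ge
  rw [Subgroup.mem_normalizer_iff]
  intro x
  constructor
  · intro hx
    rw [← e]
    exact ⟨x, hx, rfl⟩
  · intro hx
    rw [← e] at hx
    obtain ⟨y, hy, ey⟩ := hx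
    rwa [← (MulAut.conj s).injective ey]

theorem map_conj_eq_of_normalizer {K : Subgroup G} {n : G} (hn : n ∈ Subgroup.normalizer (K : Set G)) :
    K.map (MulAut.conj n).toMonoidHom = K := by
  refine le_antisymm ?_ fun x hx => ⟨n⁻¹ * x * n, (Subgroup.mem_normalizer_iff.1 hn _).2 ?_, ?_⟩
  · rintro _ ⟨y, hy, rfl⟩
    exact (Subgroup.mem_normalizer_iff.1 hn y).1 hy
  · rwa [show n * (n⁻¹ * x * n) * n⁻¹ = x by group]
  · show n * (n⁻¹ * x * n) * n⁻¹ = x
    group

theorem conj_central {s z : G} (h : z * s = s * z) : s * z * s⁻¹ = z := by rw [← h, mul_inv_cancel_right]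

theorem mem_of_hom_cover {N : Subgroup G} {P : Type} [Group P] (f : ↥N →* P) {M : Subgroup G}
    (hk : f.ker ≤ M.comap N.subtype) (hg : (⊤ : Subgroup P) ≤ (M.comap N.subtype).map f) {n : G} (hn : n ∈ N) :
    n ∈ M := by
  obtain ⟨x, hx, ex⟩ := hg (Subgroup.mem_top (f ⟨n, hn⟩))
  have hk' : x⁻¹ * ⟨n, hn⟩ ∈ f.ker := by rw [MonoidHom.mem_ker, map_mul, map_inv, ex, inv_mul_cancel]
  have := (M.comap N.subtype).mul_mem hx (hk hk')
  rwa [mul_inv_cancel_left] at this

theorem mem_map_comap {N : Subgroup G} {P : Type} [Group P] (f : ↥N →* P) {M : Subgroup G} {n : G} (hn : n ∈ N)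
    (hM : n ∈ M) : f ⟨n, hn⟩ ∈ (M.comap N.subtype).map f := ⟨⟨n, hn⟩, hM, rfl⟩

end Generic

open Cfsg Matrix Equiv Cfsg.Lib.PermAut

theorem Zc_mem_T6 : Zc ∈ T6 := dT_mem _

/-- The scalar subgroup. -/
noncomputable def C6 : Subgroup G6 := Subgroup.zpowers Zc

attribute [local irreducible] gen evenG farG node N6 piG

theorem evenMats_diag : ∀ c < 3, ∀ k < 5, permB ((evenMats.getD c []).getD k 0) id = true := by decide +kernel

/-- The exponent vectors of the diagonal generators. -/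
def stepE (k : ℕ) : Exp :=
  [⟨![1, 2, 0, 0, 0, 0], by decide⟩, ⟨![0, 1, 2, 0, 0, 0], by decide⟩, ⟨![0, 0, 1, 2, 0, 0], by decide⟩,
    ⟨![0, 0, 0, 1, 2, 0], by decide⟩, ⟨![0, 0, 0, 0, 1, 2], by decide⟩].getD k ⟨0, by simp⟩

theorem stepE_mat : ∀ c < 3, ∀ k < 5, ∀ i j : Fin 6,
    el (mget ((evenMats.getD c []).getD k 0) i j) = if i = j then elE ((stepE k).1 i) else 0 := by decide +kernel

theorem evenG_dT {c k : ℕ} (hc : c < 3) (hk : k < 5) : evenG c k = dT (stepE k) := by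
  refine mm_injective ?_
  rw [mm_evenG hc (by omega), mm_dT]
  refine Matrix.ext fun i j => ?_
  rw [mat_apply, stepE_mat c hc k hk i j, Matrix.diagonal_apply]

theorem exp_span : ∀ e : Exp, ∀ i, e.1 i = (e.1 0) * (stepE 0).1 i + (e.1 0 + e.1 1) * (stepE 1).1 i +
    (e.1 0 + e.1 1 + e.1 2) * (stepE 2).1 i + (e.1 0 + e.1 1 + e.1 2 + e.1 3) * (stepE 3).1 i +
    (e.1 0 + e.1 1 + e.1 2 + e.1 3 + e.1 4) * (stepE 4).1 i := by decide +kernel

theorem T6_le_KM {c : ℕ} (hc : c < 3) : T6 ≤ KM c := by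
  intro g hg
  obtain ⟨e, rfl⟩ := mem_T6_iff.1 hg
  let v : ZMod 3 → ℕ → Exp := fun a k =>
    ⟨fun i => a * (stepE k).1 i, by rw [← Finset.mul_sum, (stepE k).2, mul_zero]⟩
  have hv : ∀ (a : ZMod 3) (k : ℕ), k < 5 → dT (v a k) ∈ KM c := by
    intro a k hk
    have h1 : dT (stepE k) ∈ KM c := evenG_dT hc hk ▸ evenG_mem hc hk
    have hn : ∀ n : ℕ, dT (v (n : ZMod 3) k) ∈ KM c := by
      intro n
      induction n with
      | zero =>
        have e0 : dT (v ((0 : ℕ) : ZMod 3) k) = 1 := mm_injective (by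
          rw [mm_dT, map_one, ← Matrix.diagonal_one]
          exact congrArg Matrix.diagonal (funext fun i => by simp [v, elE_facts.2.2.1]))
        rw [e0]
        exact (KM c).one_mem
      | succ n ih =>
        have e1 : dT (v ((n + 1 : ℕ) : ZMod 3) k) = dT (v (n : ZMod 3) k) * dT (stepE k) := by
          rw [dT_mul]
          refine congrArg dT (Subtype.ext (funext fun i => ?_))
          simp only [v, Nat.cast_succ, add_mul, one_mul, Pi.add_apply]
        rw [e1]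
        exact (KM c).mul_mem ih h1
    have := hn a.val
    rwa [ZMod.natCast_zmod_val] at this
  have h := fun k hk => hv ((e.1 0) + (if 1 ≤ k then e.1 1 else 0) + (if 2 ≤ k then e.1 2 else 0) +
    (if 3 ≤ k then e.1 3 else 0) + (if 4 ≤ k then e.1 4 else 0)) k hk
  have hsum := (KM c).mul_mem ((KM c).mul_mem ((KM c).mul_mem ((KM c).mul_mem (h 0 (by norm_num)) (h 1 (by norm_num)))
    (h 2 (by norm_num))) (h 3 (by norm_num))) (h 4 (by norm_num))
  rw [dT_mul, dT_mul, dT_mul, dT_mul] at hsum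
  refine (congrArg dT (Subtype.ext (funext fun i => ?_))).symm ▸ hsum
  simp only [v, Pi.add_apply]
  norm_num
  exact exp_span e i

theorem expAt_spec : ∀ e : Exp, ∀ i j : Fin 6,
    el (mget (expAt (e.1 0).val (e.1 1).val (e.1 2).val (e.1 3).val (e.1 4).val) i j) =
      if i = j then elE (e.1 i) else 0 := by decide +kernel

theorem mat_expAt (e : Exp) :
    mm (dT e) = mat (expAt (e.1 0).val (e.1 1).val (e.1 2).val (e.1 3).val (e.1 4).val) := by
  rw [mm_dT]
  refine Matrix.ext fun i j => ?_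
  rw [mat_apply, expAt_spec e i j, Matrix.diagonal_apply]

/-- A diagonal element fixing every point is scalar. -/
theorem scalar_of_fix {c : ℕ} (hc : c < 3) {t : G6} (ht : t ∈ T6) (hfix : ∀ i, t • pnt c i = pnt c i) :
    t ∈ C6 := by
  obtain ⟨e, rfl⟩ := mem_T6_iff.1 ht
  have h := (checks c hc).2.2.2.2.2.1
  simp only [kerB, List.all_eq_true, List.mem_range, Bool.or_eq_true, List.any_eq_true, Bool.not_eq_true',
    sameM_iff] at h
  have a0 := ZMod.val_lt (e.1 0); have a1 := ZMod.val_lt (e.1 1); have a2 := ZMod.val_lt (e.1 2)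
  have a3 := ZMod.val_lt (e.1 3); have a4 := ZMod.val_lt (e.1 4)
  have hk := h ((e.1 0).val + 3 * (e.1 1).val + 9 * (e.1 2).val + 27 * (e.1 3).val + 81 * (e.1 4).val) (by omega)
  rw [show ((e.1 0).val + 3 * (e.1 1).val + 9 * (e.1 2).val + 27 * (e.1 3).val + 81 * (e.1 4).val) % 3 =
      (e.1 0).val by omega,
    show ((e.1 0).val + 3 * (e.1 1).val + 9 * (e.1 2).val + 27 * (e.1 3).val + 81 * (e.1 4).val) / 3 % 3 =
      (e.1 1).val by omega,
    show ((e.1 0).val + 3 * (e.1 1).val + 9 * (e.1 2).val + 27 * (e.1 3).val + 81 * (e.1 4).val) / 9 % 3 =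
      (e.1 2).val by omega,
    show ((e.1 0).val + 3 * (e.1 1).val + 9 * (e.1 2).val + 27 * (e.1 3).val + 81 * (e.1 4).val) / 27 % 3 =
      (e.1 3).val by omega,
    show ((e.1 0).val + 3 * (e.1 1).val + 9 * (e.1 2).val + 27 * (e.1 3).val + 81 * (e.1 4).val) / 81 % 3 =
      (e.1 4).val by omega, ← mat_expAt e] at hk
  rcases hk with ((hz | hz) | hz) | ⟨i, hi, hm⟩
  · rw [mat_zPow] at hz
    rw [mm_injective hz]
    exact (C6).pow_mem (Subgroup.mem_zpowers _) _
  · rw [mat_zPow] at hz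
    rw [mm_injective hz]
    exact (C6).pow_mem (Subgroup.mem_zpowers _) _
  · rw [mat_zPow] at hz
    rw [mm_injective hz]
    exact (C6).pow_mem (Subgroup.mem_zpowers _) _
  · exfalso
    have hi' : i < 112 := by
      have : ∀ x ∈ kerWit, x < 112 := by decide
      exact this i hi
    have := (smul_pnt_eq_iff hc (mat_expAt e) ⟨i, hi'⟩ ⟨i, hi'⟩).1 (hfix _)
    exact Bool.false_ne_true (hm.symm.trans this)

theorem perm_one_of_shift {p : Perm (Fin 6)} (h : ∀ e : Exp, ∃ a : ZMod 3, ∀ i, e.1 i = e.1 (p⁻¹ i) + a) :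
    p = 1 := by
  refine Equiv.ext fun x => by_contra fun hx => ?_
  rw [Perm.one_apply] at hx
  have hex : ∀ s : Finset (Fin 6), s.card ≤ 4 → ∃ d, d ∉ s := fun s hs => by
    by_contra! h
    rw [Finset.eq_univ_of_forall h, Finset.card_univ, Fintype.card_fin] at hs
    omega
  obtain ⟨d, hd⟩ := hex {x, p x} (Finset.card_le_two.trans (by norm_num))
  obtain ⟨k, hk⟩ := hex {x, p x, d, p d} Finset.card_le_four
  simp only [Finset.mem_insert, Finset.mem_singleton, not_or] at hd hk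
  let e : Exp := ⟨Pi.single x 1 + Pi.single d 2, by
    rw [Finset.sum_congr rfl fun k _ => Pi.add_apply _ _ k, Finset.sum_add_distrib,
      Finset.sum_pi_single', Finset.sum_pi_single']
    simp only [Finset.mem_univ, if_true]; decide⟩
  obtain ⟨a, ha⟩ := h e
  have h1 := ha (p x)
  have h2 := ha k
  have hk1 : p⁻¹ k ≠ x := fun e => hk.2.1 (by rw [← e]; simp)
  have hk2 : p⁻¹ k ≠ d := fun e => hk.2.2.2 (by rw [← e]; simp)
  simp only [e, Pi.add_apply, Perm.coe_inv, Equiv.symm_apply_apply, Pi.single_eq_same,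
    Pi.single_eq_of_ne hx, Pi.single_eq_of_ne (Ne.symm hd.2), Pi.single_eq_of_ne (Ne.symm hd.1),
    add_zero] at h1
  rw [Perm.coe_inv] at hk1 hk2
  simp only [e, Pi.add_apply, Perm.coe_inv, Pi.single_eq_of_ne hk.1, Pi.single_eq_of_ne hk.2.2.1,
    Pi.single_eq_of_ne hk1, Pi.single_eq_of_ne hk2, add_zero, zero_add] at h2
  rw [← h2] at h1
  exact absurd h1 (by decide)

theorem Zc_ne : Zc ≠ 1 := fun h => by
  have := congrFun (congrFun (congrArg mm h) 0) 0
  rw [Zc, mm_dT, map_one, Matrix.diagonal_apply_eq, Matrix.one_apply_eq] at this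
  exact absurd this (by decide)

theorem Zc_cube : Zc ^ 3 = 1 := T6_cube Zc_mem_T6

theorem card_C6 : Nat.card ↥C6 = 3 := by
  haveI : Fact (Nat.Prime 3) := ⟨Nat.prime_three⟩
  exact (Nat.card_zpowers _).trans (orderOf_eq_prime Zc_cube Zc_ne)

theorem C6_comm {z : G6} (hz : z ∈ C6) (g : G6) : z * g = g * z := by
  obtain ⟨n, rfl⟩ := Subgroup.mem_zpowers_iff.1 hz
  exact (show Commute Zc g from Zc_comm g).zpow_left n

theorem mem_C6_iff {z : G6} : z ∈ C6 ↔ ∃ a : ZMod 3, mm z = Matrix.diagonal fun _ => elE a := by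
  constructor
  · intro hz
    obtain ⟨n, hn, rfl⟩ : ∃ n, n < 3 ∧ Zc ^ n = z := by
      have hfo : IsOfFinOrder Zc := isOfFinOrder_iff_pow_eq_one.2 ⟨3, by norm_num, Zc_cube⟩
      obtain ⟨n, rfl⟩ := hfo.mem_powers_iff_mem_zpowers.2 hz
      refine ⟨n % 3, Nat.mod_lt _ (by norm_num), ?_⟩
      show Zc ^ (n % 3) = Zc ^ n
      exact (pow_eq_pow_mod n Zc_cube).symm
    refine ⟨n, ?_⟩
    rw [map_pow, Zc, mm_dT, Matrix.diagonal_pow]
    refine congrArg Matrix.diagonal (funext fun _ => ?_)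
    show elE 1 ^ n = elE n
    interval_cases n <;> decide
  · rintro ⟨a, ha⟩
    have : z = Zc ^ a.val := mm_injective (by
      rw [ha, map_pow, Zc, mm_dT, Matrix.diagonal_pow]
      refine congrArg Matrix.diagonal (funext fun _ => ?_)
      exact (show ∀ b : ZMod 3, elE b = elE 1 ^ b.val by decide) a)
    rw [this]
    exact C6.pow_mem (Subgroup.mem_zpowers _) _

theorem C6_le_KM (c : ℕ) : C6 ≤ KM c := Subgroup.zpowers_le.2 (Zc_mem c)

theorem mem_N6_of_fix {c : ℕ} (hc : c < 3) {g : G6} (h : g • pnt c 0 = pnt c 0) : g ∈ N6 := by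
  rw [pnt, smul_mkP_iff, node_zero hc, inv_one, one_mul, mul_one] at h
  exact h

theorem ker_phi {c : ℕ} (hc : c < 3) {g : ↥(KM c)} (hg : phi hc g = 1) : (g : G6) ∈ C6 := by
  have hfix : ∀ i, (g : G6) • pnt c i = pnt c i := fun i => by
    have := moves_apply (phi_spec hc g) i
    rwa [hg, Perm.one_apply] at this
  have hN := mem_N6_of_fix hc (hfix 0)
  have key : ∀ e : Exp, ∃ a : ZMod 3, ∀ i, e.1 i = e.1 ((perN ⟨g, hN⟩)⁻¹ i) + a := by
    intro e
    have hd : (g : G6) * dT e * (g : G6)⁻¹ = dT _ := conj_dT ⟨g, hN⟩ e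
    set e' : Exp := ⟨e.1 ∘ ⇑(perN ⟨g, hN⟩)⁻¹, (Equiv.sum_comp _ e.1).trans e.2⟩ with he'
    have hdiff : dT e * ((g : G6) * dT e * (g : G6)⁻¹)⁻¹ ∈ C6 := by
      refine scalar_of_fix hc ?_ fun i => ?_
      · exact T6.mul_mem (dT_mem e) (T6.inv_mem (hd ▸ dT_mem _))
      · have hs : dT e ∈ KM c := T6_le_KM hc (dT_mem e)
        have k : phi hc (⟨dT e, hs⟩ * (g * ⟨dT e, hs⟩ * g⁻¹)⁻¹) = 1 := by
          simp [hg]
        have := moves_apply (phi_spec hc (⟨dT e, hs⟩ * (g * ⟨dT e, hs⟩ * g⁻¹)⁻¹)) i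
        rw [k, Perm.one_apply] at this
        exact this
    obtain ⟨a, ha⟩ := mem_C6_iff.1 hdiff
    refine ⟨a, fun i => ?_⟩
    have h1 : mm (dT e) = mm (dT e * ((g : G6) * dT e * (g : G6)⁻¹)⁻¹) * mm ((g : G6) * dT e * (g : G6)⁻¹) := by
      rw [← map_mul, inv_mul_cancel_right]
    rw [ha, hd, mm_dT, mm_dT, Matrix.diagonal_mul_diagonal] at h1
    have h2 := congrFun (Matrix.diagonal_injective h1) i
    rw [← elE_facts.1] at h2
    have h3 := elE_facts.2.2.2.1 _ _ h2
    rw [h3, add_comm]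
    rfl
  have hp := perm_one_of_shift key
  exact scalar_of_fix hc ⟨⟨g, hN⟩, MonoidHom.mem_ker.2 hp, rfl⟩ hfix

theorem phi_C6 {c : ℕ} (hc : c < 3) {g : ↥(KM c)} (hg : (g : G6) ∈ C6) : phi hc g = 1 := by
  obtain ⟨n, hn⟩ := Subgroup.mem_zpowers_iff.1 hg
  have : g = (⟨Zc, Zc_mem c⟩ : ↥(KM c)) ^ n := Subtype.ext (by rw [SubgroupClass.coe_zpow]; exact hn.symm)
  rw [this, map_zpow, show phi hc ⟨Zc, Zc_mem c⟩ = 1 from moves_unique hc (phi_spec hc _) (Zc_pair c), _root_.one_zpow]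

theorem words_sym {c k : ℕ} (hc : c < 3) (hk : k < 4) :
    ofM ((symMats.getD c []).getD (k / 2) 0) * gen c (k % 2) * (ofM ((symMats.getD c []).getD (k / 2) 0))⁻¹ ∈ KM c := by
  have hb := (checks c hc).1
  simp only [baseB, Bool.and_eq_true, List.all_eq_true, List.mem_range] at hb
  have hs := of_suB (hb.2 (k / 2) (by omega))
  have h := (checks c hc).2.2.2.2.2.2
  simp only [wordsB, Bool.and_eq_true, List.all_eq_true, List.mem_range, sameM_iff, Nat.blt, Nat.ble_eq] at h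
  have e := h.1.1.2 k hk
  refine mem_of_word (f := genL c) (w := nWords.getD k ([], 0)) (F := genLet c) (fun j hj => genLet_spec hc ?_)
    (Zc_mem c) ?_
  · have := h.2 _ (List.mem_append_right _ (getD_mem _ (show k < nWords.length from hk))) j hj
    omega
  · rw [← e, map_mul, map_mul, mm_inv_of hs, hs, mm_gen hc (Nat.mod_lt _ (by norm_num)), mat_mulM, mat_mulM]

theorem sym_perms : ∀ c < 3, permB ((symMats.getD c []).getD 0 0) (Equiv.swap (0 : Fin 6) 1) = true ∧
    permB ((symMats.getD c []).getD 1 0) (finRotate 6) = true := by decide +kernel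

theorem mem_normalizer_KM (c : ℕ) (s : G6) (h : ∀ x ∈ ({gen c 0, gen c 1, Zc} : Set G6), s * x * s⁻¹ ∈ KM c) :
    s ∈ Subgroup.normalizer (KM c : Set G6) := by
  haveI := finite_G6
  rw [KM] at h ⊢
  exact mem_normalizer_of_gens h

theorem conj_Zc (s : G6) : s * Zc * s⁻¹ = Zc := @conj_central G6 _ s Zc (Zc_comm s)

theorem conj_Zc_mem (c : ℕ) (s : G6) : s * Zc * s⁻¹ ∈ KM c := (conj_Zc s).symm ▸ Zc_mem c

theorem KM_normalizer {c : ℕ} (s : G6) (h0 : s * gen c 0 * s⁻¹ ∈ KM c) (h1 : s * gen c 1 * s⁻¹ ∈ KM c) :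
    s ∈ Subgroup.normalizer (KM c : Set G6) := by
  refine mem_normalizer_KM c s ?_
  refine Set.forall_mem_insert.2 ⟨h0, Set.forall_mem_insert.2 ⟨h1, fun x hx => ?_⟩⟩
  rw [Set.mem_singleton_iff] at hx
  subst hx
  exact conj_Zc_mem c s

theorem mem_of_perN_cover {M : Subgroup G6} (hle : perN.ker ≤ M.comap N6.subtype)
    (hgen : (⊤ : Subgroup (Equiv.Perm (Fin 6))) ≤ (M.comap N6.subtype).map perN) {n : G6} (hn : n ∈ N6) : n ∈ M :=
  mem_of_hom_cover perN hle hgen hn

theorem T6_comap_le {M : Subgroup G6} (hT : T6 ≤ M) : perN.ker ≤ M.comap N6.subtype :=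
  fun x hx => hT ⟨x, hx, rfl⟩

theorem sym_normalizes {c i : ℕ} (hc : c < 3) (hi : i < 2) :
    ofM ((symMats.getD c []).getD i 0) ∈ Subgroup.normalizer (KM c : Set G6) := by
  have a0 := words_sym hc (k := 2 * i) (by omega)
  have a1 := words_sym hc (k := 2 * i + 1) (by omega)
  rw [show 2 * i / 2 = i by omega, show 2 * i % 2 = 0 by omega] at a0
  rw [show (2 * i + 1) / 2 = i by omega, show (2 * i + 1) % 2 = 1 by omega] at a1
  exact KM_normalizer _ a0 a1

theorem sym_cover {c : ℕ} (hc : c < 3) :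
    (⊤ : Subgroup (Equiv.Perm (Fin 6))) ≤
      ((Subgroup.normalizer (KM c : Set G6)).comap N6.subtype).map perN := by
  have hb := (checks c hc).1
  simp only [baseB, Bool.and_eq_true, List.all_eq_true, List.mem_range] at hb
  obtain ⟨hg0, e0⟩ := perN_of_permB (p := Equiv.swap (0 : Fin 6) 1) (of_suB (hb.2 0 (by norm_num))) (sym_perms c hc).1
  obtain ⟨hg1, e1⟩ := perN_of_permB (p := finRotate 6) (of_suB (hb.2 1 (by norm_num))) (sym_perms c hc).2
  rw [← Equiv.Perm.closure_cycle_adjacent_swap (isCycle_finRotate (n := 4)) (support_finRotate (n := 4)) 0,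
    Subgroup.closure_le]
  intro p hp
  simp only [Set.mem_insert_iff, Set.mem_singleton_iff] at hp
  rcases hp with rfl | rfl
  · rw [← e1]
    exact @mem_map_comap G6 _ N6 (Equiv.Perm (Fin 6)) _ perN _ _ hg1 (sym_normalizes hc (by norm_num))
  · have hs : Equiv.swap (0 : Fin 6) (finRotate 6 0) = Equiv.swap (0 : Fin 6) 1 := by
      rw [show finRotate 6 0 = 1 from rfl]
    rw [hs, ← e0]
    exact @mem_map_comap G6 _ N6 (Equiv.Perm (Fin 6)) _ perN _ _ hg0 (sym_normalizes hc (by norm_num))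

theorem N6_normalizes {c : ℕ} (hc : c < 3) {n : G6} (hn : n ∈ N6) :
    (KM c).map (MulAut.conj n).toMonoidHom = KM c :=
  @map_conj_eq_of_normalizer G6 _ (KM c) n
    (mem_of_perN_cover (T6_comap_le ((T6_le_KM hc).trans Subgroup.le_normalizer)) (sym_cover hc) hn)

theorem KM_ne {a b : ℕ} (ha : a < 3) (hb : b < 3) (hd : diffB a b = true) : KM a ≠ KM b := by
  intro e
  have hg : gen a 0 ∈ KM b := e ▸ gen_mem a 0 (by norm_num)
  obtain ⟨p, hp, -⟩ := exists_perm hb hg
  have h1 := moves_apply hp 0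
  simp only [diffB, List.all_eq_true, List.mem_range, Bool.not_eq_true'] at hd
  have h2 := hd (p 0 : Fin 112) (Fin.isLt _)
  rw [pnt, pnt, smul_mkP_iff, node_zero hb, mul_one,
    mono_iff_monB (m := mulM (starM (nodeM b (p 0 : Fin 112))) (genM a 0))
      (by rw [map_mul, mm_inv_of (node_spec hb _).2, mm_gen ha (by norm_num), mat_mulM])] at h1
  exact Bool.false_ne_true (h2.symm.trans h1)

end Cfsg.Lib.SUSixU43
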