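import Cfsg.Agent.Lib.SUSixU43.Codes

/-!
# Monomial and diagonal elements
-/

set_option autoImplicit false
set_option maxRecDepth 20000

namespace Cfsg.Lib.SUSixU43

open Cfsg Matrix

/-- A monomial element. -/
def Mono (g : G6) : Prop := ∃ p : Equiv.Perm (Fin 6), ∀ i j, i ≠ p j → mm g i j = 0

theorem cube_one : ∀ x : R4, x ≠ 0 → x ^ 3 = 1 := by decide +kernel

theorem col_ne (g : G6) (j : Fin 6) : ∃ i, mm g i j ≠ 0 := by
  by_contra! h
  have := congrFun (congrFun (star_mul_self g) j) j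
  rw [Matrix.mul_apply, Matrix.one_apply_eq, Finset.sum_eq_zero fun k _ => by simp [h k]] at this
  exact zero_ne_one this

theorem mono_of_cols {g : G6} (h : ∀ j i i', mm g i j ≠ 0 → mm g i' j ≠ 0 → i = i') : Mono g := by
  classical
  choose p hp using col_ne g
  have hz : ∀ i j, i ≠ p j → mm g i j = 0 := fun i j hi => by_contra fun hn => hi (h j i _ hn (hp j))
  have hinj : Function.Injective p := by
    intro a b hab
    by_contra hne
    have := congrFun (congrFun (star_mul_self g) a) b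
    rw [Matrix.mul_apply, Matrix.one_apply_ne hne, Finset.sum_eq_single (p a)] at this
    · simp only [Matrix.map_apply, Matrix.transpose_apply] at this
      rcases mul_eq_zero.1 this with e | e
      · exact hp a (pow_eq_zero_iff (by norm_num) |>.1 e)
      · exact hp b (hab ▸ e)
    · intro k _ hk
      simp [hz k a hk]
    · simp
  exact ⟨Equiv.ofBijective p (Finite.injective_iff_bijective.1 hinj), hz⟩

theorem Mono.unique {g : G6} {p : Equiv.Perm (Fin 6)} (hp : ∀ i j, i ≠ p j → mm g i j = 0) (j : Fin 6) :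
    mm g (p j) j ≠ 0 := by
  obtain ⟨i, hi⟩ := col_ne g j
  by_contra h
  rcases eq_or_ne i (p j) with rfl | hne
  · exact hi h
  · exact hi (hp i j hne)

/-- The monomial subgroup. -/
noncomputable def N6 : Subgroup G6 where
  carrier := {g | Mono g}
  one_mem' := ⟨1, fun i j h => by
    rw [map_one, Matrix.one_apply_ne]
    simpa using h⟩
  mul_mem' {g h} hg hh := by
    obtain ⟨p, hp⟩ := hg
    obtain ⟨q, hq⟩ := hh
    refine ⟨p * q, fun i j hij => ?_⟩
    rw [map_mul, Matrix.mul_apply, Finset.sum_eq_zero]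
    intro k _
    rcases eq_or_ne k (q j) with rfl | hk
    · rw [hp i _ (by simpa [Equiv.Perm.mul_apply] using hij), zero_mul]
    · rw [hq k j hk, mul_zero]
  inv_mem' {g} hg := by
    obtain ⟨p, hp⟩ := hg
    refine ⟨p⁻¹, fun i j hij => ?_⟩
    rw [mm_inv, Matrix.map_apply, Matrix.transpose_apply, hp j i (fun e => hij (by rw [e]; simp))]
    simp

theorem perm_unique {g : G6} {p q : Equiv.Perm (Fin 6)} (hp : ∀ i j, i ≠ p j → mm g i j = 0)
    (hq : ∀ i j, i ≠ q j → mm g i j = 0) : p = q := by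
  refine Equiv.ext fun j => by_contra fun h => Mono.unique hp j (hq _ j h)

theorem perm_spec (g : ↥N6) : ∀ i j, i ≠ (g.2 : Mono g.1).choose j → mm g.1 i j = 0 :=
  (g.2 : Mono g.1).choose_spec

/-- The permutation of a monomial element. -/
noncomputable def perN : ↥N6 →* Equiv.Perm (Fin 6) :=
  MonoidHom.mk' (fun g => (g.2 : Mono g.1).choose) fun g h => by
    refine (perm_unique (perm_spec (g * h)) fun i j hij => ?_)
    rw [Subgroup.coe_mul, map_mul, Matrix.mul_apply, Finset.sum_eq_zero]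
    intro k _
    rcases eq_or_ne k ((h.2 : Mono h.1).choose j) with rfl | hk
    · rw [perm_spec g i _ (by simpa [Equiv.Perm.mul_apply] using hij), zero_mul]
    · rw [perm_spec h k j hk, mul_zero]

theorem perN_spec (g : ↥N6) (i j : Fin 6) (h : i ≠ perN g j) : mm g.1 i j = 0 := perm_spec g i j h

theorem perN_entry (g : ↥N6) (j : Fin 6) : mm g.1 (perN g j) j ≠ 0 := Mono.unique (perN_spec g) j

theorem perN_eq {g : G6} {p : Equiv.Perm (Fin 6)} (hg : g ∈ N6) (hp : ∀ i j, i ≠ p j → mm g i j = 0) :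
    perN ⟨g, hg⟩ = p := perm_unique (perN_spec ⟨g, hg⟩) hp

/-- The element with code of an exponent. -/
def elE (e : ZMod 3) : R4 := el (e.val + 1)

theorem elE_facts : (∀ a b : ZMod 3, elE (a + b) = elE a * elE b) ∧ (∀ a, elE a ≠ 0) ∧ (elE 0 = 1) ∧
    (∀ a b, elE a = elE b → a = b) ∧ (∀ x : R4, x ≠ 0 → ∃ a, elE a = x) ∧
    ∀ a, elE a ^ 2 = elE (-a) := by decide +kernel

theorem elE_sum (s : Finset (Fin 6)) (e : Fin 6 → ZMod 3) : elE (∑ i ∈ s, e i) = ∏ i ∈ s, elE (e i) := by
  classical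
  induction s using Finset.induction_on with
  | empty => simpa using elE_facts.2.2.1
  | insert a s ha ih => rw [Finset.sum_insert ha, Finset.prod_insert ha, elE_facts.1, ih]

/-- The exponent vectors of diagonal elements. -/
abbrev Exp : Type := {e : Fin 6 → ZMod 3 // ∑ i, e i = 0}

theorem card_exp : Nat.card Exp = 243 := by
  rw [Nat.card_eq_fintype_card]; decide +kernel

theorem dT_herm (e : Exp) (u v : Fin 6 → R4) :
    hermForm 6 R4 2 (Matrix.diagonal (fun i => elE (e.1 i)) *ᵥ u) (Matrix.diagonal (fun i => elE (e.1 i)) *ᵥ v) =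
      hermForm 6 R4 2 u v := by
  refine Finset.sum_congr rfl fun i _ => ?_
  rw [Matrix.mulVec_diagonal, Matrix.mulVec_diagonal, mul_pow]
  calc elE (e.1 i) * u i * (elE (e.1 i) ^ 2 * v i ^ 2) = elE (e.1 i) ^ 3 * (u i * v i ^ 2) := by ring
    _ = _ := by rw [cube_one _ (elE_facts.2.1 _), one_mul]

/-- The diagonal element of an exponent vector. -/
noncomputable def dT (e : Exp) : G6 :=
  ⟨⟨Matrix.diagonal fun i => elE (e.1 i), by rw [Matrix.det_diagonal, ← elE_sum, e.2, elE_facts.2.2.1]⟩, dT_herm e⟩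

theorem mm_dT (e : Exp) : mm (dT e) = Matrix.diagonal fun i => elE (e.1 i) := rfl

theorem dT_mul (a b : Exp) : dT a * dT b = dT ⟨a.1 + b.1, by simp [Finset.sum_add_distrib, a.2, b.2]⟩ := by
  refine mm_injective ?_
  rw [map_mul, mm_dT, mm_dT, mm_dT, Matrix.diagonal_mul_diagonal]
  simp only [Pi.add_apply, elE_facts.1]

theorem dT_inj : Function.Injective dT := fun a b h => by
  refine Subtype.ext (funext fun i => elE_facts.2.2.2.1 _ _ ?_)
  have := congrFun (congrFun (congrArg mm h) i) i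
  rwa [mm_dT, mm_dT, Matrix.diagonal_apply_eq, Matrix.diagonal_apply_eq] at this

/-- A diagonal element. -/
def IsDiag (g : G6) : Prop := ∀ i j, i ≠ j → mm g i j = 0

theorem exists_dT {g : G6} (h : IsDiag g) : ∃ e, dT e = g := by
  have hd : mm g = Matrix.diagonal fun i => mm g i i := Matrix.ext fun i j => by
    rcases eq_or_ne i j with rfl | hij
    · simp
    · rw [Matrix.diagonal_apply_ne _ hij, h i j hij]
  have hne : ∀ i, mm g i i ≠ 0 := Mono.unique (p := 1) (fun i j hij => h i j (by simpa using hij))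
  choose e he using fun i => elE_facts.2.2.2.2.1 _ (hne i)
  refine ⟨⟨e, elE_facts.2.2.2.1 _ _ ?_⟩, mm_injective ?_⟩
  · rw [elE_sum, elE_facts.2.2.1]
    calc ∏ i, elE (e i) = ∏ i, mm g i i := Finset.prod_congr rfl fun i _ => he i
      _ = (mm g).det := ((congrArg Matrix.det hd).trans (Matrix.det_diagonal ..)).symm
      _ = 1 := g.1.2
  · rw [mm_dT]
    exact (congrArg Matrix.diagonal (funext he)).trans hd.symm

/-- The diagonal subgroup. -/
noncomputable def T6 : Subgroup G6 := perN.ker.map N6.subtype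

theorem mem_T6 {g : G6} : g ∈ T6 ↔ IsDiag g := by
  constructor
  · rintro ⟨n, hn, rfl⟩ i j hij
    refine perN_spec n i j ?_
    rwa [MonoidHom.mem_ker.1 hn, Equiv.Perm.one_apply]
  · intro h
    have hm : g ∈ N6 := ⟨1, fun i j hij => h i j (by simpa using hij)⟩
    exact ⟨⟨g, hm⟩, MonoidHom.mem_ker.2 (perN_eq hm (fun i j hij => h i j (by simpa using hij))), rfl⟩

theorem dT_mem (e : Exp) : dT e ∈ T6 := mem_T6.2 fun i j h => by rw [mm_dT, Matrix.diagonal_apply_ne _ h]

theorem T6_le : T6 ≤ N6 := by rintro g ⟨n, -, rfl⟩; exact n.2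

theorem mem_T6_iff {g : G6} : g ∈ T6 ↔ ∃ e, dT e = g :=
  ⟨fun h => exists_dT (mem_T6.1 h), by rintro ⟨e, rfl⟩; exact dT_mem e⟩

theorem card_T6 : Nat.card ↥T6 = 243 := by
  rw [← card_exp]
  refine (Nat.card_congr (Equiv.ofBijective (fun e : Exp => (⟨dT e, dT_mem e⟩ : ↥T6)) ⟨fun a b h =>
    dT_inj (congrArg Subtype.val h), fun g => ?_⟩)).symm
  obtain ⟨e, he⟩ := mem_T6_iff.1 g.2
  exact ⟨e, Subtype.ext he⟩

theorem T6_comm {g h : G6} (hg : g ∈ T6) (hh : h ∈ T6) : g * h = h * g := by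
  obtain ⟨a, rfl⟩ := mem_T6_iff.1 hg
  obtain ⟨b, rfl⟩ := mem_T6_iff.1 hh
  rw [dT_mul, dT_mul]
  simp only [add_comm a.1]

theorem T6_cube {g : G6} (hg : g ∈ T6) : g ^ 3 = 1 := by
  obtain ⟨a, rfl⟩ := mem_T6_iff.1 hg
  refine mm_injective ?_
  rw [map_pow, mm_dT, Matrix.diagonal_pow, map_one, ← Matrix.diagonal_one]
  exact congrArg Matrix.diagonal (funext fun i => cube_one _ (elE_facts.2.1 _))

/-- An element normalising the diagonal subgroup is monomial. -/
theorem mono_of_normal {g : G6} (h : ∀ t ∈ T6, g⁻¹ * t * g ∈ T6) : g ∈ N6 := by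
  refine mono_of_cols fun j i i' hi hi' => by_contra fun hne => ?_
  let e : Exp := ⟨Pi.single i 1 + Pi.single i' 2, by
    rw [Finset.sum_congr rfl fun k _ => Pi.add_apply _ _ k, Finset.sum_add_distrib,
      Finset.sum_pi_single', Finset.sum_pi_single']
    simp only [Finset.mem_univ, if_true]; decide⟩
  obtain ⟨s, hs⟩ := mem_T6_iff.1 (h _ (dT_mem e))
  have he : dT e * g = g * dT s := by rw [hs]; group
  have key : ∀ k, mm g k j ≠ 0 → elE (e.1 k) = elE (s.1 j) := fun k hk => by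
    have := congrFun (congrFun (congrArg mm he) k) j
    rw [map_mul, map_mul, mm_dT, mm_dT, Matrix.diagonal_mul, Matrix.mul_diagonal, mul_comm] at this
    exact mul_left_cancel₀ hk this
  have hh := elE_facts.2.2.2.1 _ _ ((key i hi).trans (key i' hi').symm)
  simp only [e, Pi.add_apply, Pi.single_eq_same, Pi.single_eq_of_ne hne, Pi.single_eq_of_ne (Ne.symm hne),
    add_zero, zero_add] at hh
  exact absurd hh (by decide)

theorem conj_dT (n : ↥N6) (e : Exp) :
    (n : G6) * dT e * (n : G6)⁻¹ = dT ⟨e.1 ∘ ⇑(perN n)⁻¹, (Equiv.sum_comp _ e.1).trans e.2⟩ := by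
  rw [mul_inv_eq_iff_eq_mul]
  refine mm_injective (Matrix.ext fun i j => ?_)
  rw [map_mul, map_mul, mm_dT, mm_dT, Matrix.diagonal_mul, Matrix.mul_diagonal]
  rcases eq_or_ne i (perN n j) with rfl | h
  · simp [mul_comm]
  · simp [perN_spec n i j h]

theorem T6_normal {n t : G6} (hn : n ∈ N6) (ht : t ∈ T6) : n * t * n⁻¹ ∈ T6 := by
  obtain ⟨e, rfl⟩ := mem_T6_iff.1 ht
  rw [conj_dT ⟨n, hn⟩]
  exact dT_mem _

/-- The number of nonzero entries in a column. -/
def colCount (m j : ℕ) : ℕ :=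
  (mget m 0 j + 3) / 4 + (mget m 1 j + 3) / 4 + (mget m 2 j + 3) / 4 + (mget m 3 j + 3) / 4 +
    (mget m 4 j + 3) / 4 + (mget m 5 j + 3) / 4

/-- The monomial test on codes. -/
noncomputable def monB (m : ℕ) : Bool :=
  fN m fun m => Nat.ble (colCount m 0) 1 && Nat.ble (colCount m 1) 1 && Nat.ble (colCount m 2) 1 &&
    Nat.ble (colCount m 3) 1 && Nat.ble (colCount m 4) 1 && Nat.ble (colCount m 5) 1

theorem mget_lt (m i j : ℕ) : mget m i j < 4 := Nat.mod_lt _ (by norm_num)

theorem monB_iff (m : ℕ) : monB m = true ↔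
    ∀ j i i' : Fin 6, mget m i j % 4 ≠ 0 → mget m i' j % 4 ≠ 0 → i = i' := by
  have hc : ∀ j : Fin 6, colCount m j = (Finset.univ.filter fun i : Fin 6 => mget m i j % 4 ≠ 0).card := by
    intro j
    have h1 : ∀ x, x < 4 → (x + 3) / 4 = if x % 4 ≠ 0 then 1 else 0 := by decide
    rw [Finset.card_filter, Fin.sum_univ_six]
    simp only [colCount, h1 _ (mget_lt m _ _)]
    rfl
  rw [monB, fN_eq]
  simp only [Bool.and_eq_true, Nat.ble_eq]
  constructor
  · intro h j i i' hi hi'
    have hj : colCount m j ≤ 1 := by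
      obtain ⟨⟨⟨⟨⟨h0, h1⟩, h2⟩, h3⟩, h4⟩, h5⟩ := h
      fin_cases j <;> assumption
    rw [hc, Finset.card_le_one] at hj
    exact hj i (by simp [hi]) i' (by simp [hi'])
  · intro h
    have key : ∀ j : Fin 6, colCount m j ≤ 1 := fun j => by
      rw [hc, Finset.card_le_one]
      intro a ha b hb
      simp only [Finset.mem_filter, Finset.mem_univ, true_and] at ha hb
      exact h j a b ha hb
    exact ⟨⟨⟨⟨⟨key 0, key 1⟩, key 2⟩, key 3⟩, key 4⟩, key 5⟩

theorem mono_iff_monB {g : G6} {m : ℕ} (hm : mm g = mat m) : g ∈ N6 ↔ monB m = true := by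
  rw [monB_iff]
  constructor
  · intro hg j i i' hi hi'
    have key : ∀ k : Fin 6, mget m k j % 4 ≠ 0 → k = perN ⟨g, hg⟩ j := fun k hk => by_contra fun h => hk (by
      rw [← el_eq_zero, ← mat_apply, ← hm]
      exact perN_spec ⟨g, hg⟩ k j h)
    rw [key i hi, key i' hi']
  · intro h
    refine mono_of_cols fun j i i' hi hi' => h j i i' ?_ ?_
    · rwa [hm, mat_apply, ne_eq, el_eq_zero] at hi
    · rwa [hm, mat_apply, ne_eq, el_eq_zero] at hi'

/-- The permutation on codes. -/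
noncomputable def permB (m : ℕ) (p : Fin 6 → Fin 6) : Bool :=
  decide (∀ i j : Fin 6, i ≠ p j → mget m i j % 4 = 0)

theorem perN_of_permB {g : G6} {m : ℕ} (hm : mm g = mat m) {p : Equiv.Perm (Fin 6)}
    (h : permB m p = true) : ∃ hg : g ∈ N6, perN ⟨g, hg⟩ = p := by
  simp only [permB, decide_eq_true_eq] at h
  have hz : ∀ i j, i ≠ p j → mm g i j = 0 := fun i j hij => by rw [hm, mat_apply, el_eq_zero]; exact h i j hij
  exact ⟨⟨p, hz⟩, perN_eq _ hz⟩

end Cfsg.Lib.SUSixU43
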