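import Cfsg.Agent.Lib.SUSixU43.Sylow

/-! Exponent vectors fixed, up to a scalar, by a three-group of permutations of order nine. -/

set_option autoImplicit false
set_option maxRecDepth 20000

namespace Cfsg.Lib.SUSixU43

open Equiv

/-- The permutations fixing an exponent vector up to a constant. -/
def shiftStab (e : Exp) : Subgroup (Perm (Fin 6)) where
  carrier := {p | ∃ a : ZMod 3, ∀ i, e.1 (p i) = e.1 i + a}
  one_mem' := ⟨0, fun i => by simp⟩
  mul_mem' := by
    rintro p q ⟨a, ha⟩ ⟨b, hb⟩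
    exact ⟨b + a, fun i => by rw [Perm.mul_apply, ha, hb, add_assoc]⟩
  inv_mem' := by
    rintro p ⟨a, ha⟩
    refine ⟨-a, fun i => ?_⟩
    have := ha (p⁻¹ i)
    rw [Perm.coe_inv, Equiv.apply_symm_apply] at this
    rw [Perm.coe_inv, this, add_neg_cancel_right]

/-- The size of the level set of a coordinate. -/
def levelCount (e : Exp) (i : Fin 6) : ℕ := (Finset.univ.filter fun k => e.1 k = e.1 i).card

theorem level_of_cycles : ∀ e : Exp, (∃ a : ZMod 3, ∀ i, e.1 (cycA i) = e.1 i + a) →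
    (∃ a : ZMod 3, ∀ i, e.1 (cycB i) = e.1 i + a) → (∃ i k, e.1 i ≠ e.1 k) → ∀ i, levelCount e i = 3 := by
  decide +kernel

theorem alternating_le {H : Subgroup (Perm (Fin 6))} (h : 360 ≤ Nat.card ↥H) :
    alternatingGroup (Fin 6) ≤ H := by
  have h720 : Nat.card (Perm (Fin 6)) = 720 := by rw [Nat.card_perm, Nat.card_fin]; decide
  have hm := H.card_mul_index
  rw [h720] at hm
  have hi : H.index ≤ 2 := by
    by_contra hlt
    have := Nat.mul_le_mul h (show 3 ≤ H.index by omega)
    omega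
  interval_cases hh : H.index
  · omega
  · rw [Subgroup.index_eq_one.1 hh]
    exact le_top
  · exact (Equiv.Perm.eq_alternatingGroup_of_index_eq_two hh).ge

/-- A nonscalar exponent vector fixed up to constants by nine commuting permutations of order dividing three has
two level sets of three coordinates. -/
theorem level_of_nine {e : Exp} {p q : Perm (Fin 6)} (hp : p ∈ shiftStab e) (hq : q ∈ shiftStab e)
    (hp3 : p ^ 3 = 1) (hq3 : q ^ 3 = 1) (hpq : p * q = q * p)
    (hind : ∀ a < 3, ∀ b < 3, p ^ a * q ^ b = 1 → a = 0 ∧ b = 0) (hne : ∃ i k, e.1 i ≠ e.1 k) :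
    ∀ i, levelCount e i = 3 := by
  classical
  haveI : Fact (Nat.Prime 3) := ⟨Nat.prime_three⟩
  let H : Subgroup (Perm (Fin 6)) := Subgroup.closure {p, q}
  have hP : IsPGroup 3 ↥H := by
    intro g
    refine ⟨1, Subtype.ext ?_⟩
    obtain ⟨g, hg⟩ := g
    show g ^ 3 ^ 1 = 1
    have hgen : ∀ x ∈ ({p, q} : Set (Perm (Fin 6))), ∀ y ∈ ({p, q} : Set (Perm (Fin 6))), Commute x y := by
      rintro x (rfl | rfl) y (rfl | rfl)
      exacts [Commute.refl _, hpq, hpq.symm, Commute.refl _]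
    rw [pow_one]
    induction hg using Subgroup.closure_induction with
    | mem x hx => rcases hx with rfl | rfl <;> assumption
    | one => simp
    | mul x y hx hy ih jh =>
      have hc : Commute x y := by
        have hcc : H ≤ Subgroup.centralizer (H : Set (Perm (Fin 6))) :=
          Subgroup.closure_le_centralizer_centralizer _ |>.trans (Subgroup.centralizer_le (by
            intro a ha b hb
            have : ∀ a ∈ H, ∀ b ∈ ({p, q} : Set (Perm (Fin 6))), b * a = a * b := fun a ha b hb => by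
              have : H ≤ Subgroup.centralizer ({p, q} : Set (Perm (Fin 6))) :=
                (Subgroup.closure_le _).2 fun u hu v hv => hgen v hv u hu
              exact this ha b hb
            exact (this a ha b hb)))
        exact (hcc hy x hx)
      rw [hc.mul_pow, ih, jh, mul_one]
    | inv x _ ih => rw [inv_pow, ih, inv_one]
  let S0 : Sylow 3 (Perm (Fin 6)) := Sylow.ofCard cycGrp (by
    rw [card_cycGrp, Nat.card_perm, Nat.card_fin, show Nat.factorial 6 = 3 ^ 2 * 80 by decide,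
      Nat.factorization_mul (by norm_num) (by norm_num), Finsupp.add_apply, Nat.Prime.factorization_pow (by norm_num),
      Finsupp.single_eq_same, Nat.factorization_eq_zero_of_not_dvd (by norm_num)]
    norm_num)
  obtain ⟨P, hHP⟩ := hP.exists_le_sylow
  obtain ⟨σ, hσ⟩ := MulAction.exists_smul_eq (Perm (Fin 6)) P S0
  have hmem : ∀ x ∈ H, σ * x * σ⁻¹ ∈ cycGrp := fun x hx => by
    have e : ((σ • P : Sylow 3 (Perm (Fin 6))) : Subgroup (Perm (Fin 6))) = (S0 : Subgroup (Perm (Fin 6))) := by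
      rw [hσ]
    show MulAut.conj σ x ∈ (S0 : Subgroup (Perm (Fin 6)))
    rw [← e]
    exact Subgroup.smul_mem_pointwise_smul x (MulAut.conj σ) _ (hHP hx)
  have hpH : p ∈ H := Subgroup.subset_closure (by simp)
  have hqH : q ∈ H := Subgroup.subset_closure (by simp)
  -- the nine products exhaust the conjugated group
  let f : Fin 3 × Fin 3 → ↥cycGrp := fun ab =>
    ⟨σ * (p ^ (ab.1 : ℕ) * q ^ (ab.2 : ℕ)) * σ⁻¹, hmem _ (H.mul_mem (H.pow_mem hpH _) (H.pow_mem hqH _))⟩
  have hinj : Function.Injective f := by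
    rintro ⟨a, b⟩ ⟨a', b'⟩ h
    have h1 : p ^ (a : ℕ) * q ^ (b : ℕ) = p ^ (a' : ℕ) * q ^ (b' : ℕ) := by
      simpa [f] using congrArg Subtype.val h
    have hcomm : Commute p q := hpq
    have h2 : p ^ (((a : ℕ) + 2 * a') % 3) * q ^ (((b : ℕ) + 2 * b') % 3) = 1 := by
      rw [← pow_eq_pow_mod _ hp3, ← pow_eq_pow_mod _ hq3, pow_add, pow_add, mul_assoc,
        ← mul_assoc (p ^ (2 * (a' : ℕ))), (hcomm.pow_pow _ _).eq, mul_assoc, ← mul_assoc (p ^ (a : ℕ)), h1,
        mul_assoc, ← mul_assoc (q ^ (b' : ℕ)), ← (hcomm.pow_pow _ _).eq, mul_assoc, ← mul_assoc (p ^ (a' : ℕ)),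
        ← pow_add, ← pow_add, show (a' : ℕ) + 2 * a' = 3 * a' by omega, show (b' : ℕ) + 2 * b' = 3 * b' by omega,
        pow_mul, pow_mul, hp3, hq3, one_pow, one_pow, one_mul]
    obtain ⟨ea, eb⟩ := hind _ (Nat.mod_lt _ (by norm_num)) _ (Nat.mod_lt _ (by norm_num)) h2
    have := a.isLt; have := a'.isLt; have := b.isLt; have := b'.isLt
    exact Prod.ext (Fin.ext (by simp only; omega)) (Fin.ext (by simp only; omega))
  have hbij : Function.Bijective f := (Nat.bijective_iff_injective_and_card f).2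
    ⟨hinj, by rw [card_cycGrp, Nat.card_prod, Nat.card_fin]⟩
  let e' : Exp := ⟨e.1 ∘ ⇑σ⁻¹, (Equiv.sum_comp _ e.1).trans e.2⟩
  have hin : ∀ c ∈ cycGrp, ∃ a : ZMod 3, ∀ i, e'.1 (c i) = e'.1 i + a := by
    intro c hc
    obtain ⟨⟨a, b⟩, hab⟩ := hbij.2 ⟨c, hc⟩
    obtain ⟨u, hu⟩ := (shiftStab e).mul_mem ((shiftStab e).pow_mem hp a) ((shiftStab e).pow_mem hq b)
    have hc' : σ * (p ^ (a : ℕ) * q ^ (b : ℕ)) * σ⁻¹ = c := congrArg Subtype.val hab
    refine ⟨u, fun i => ?_⟩
    show e.1 (σ⁻¹ (c i)) = e.1 (σ⁻¹ i) + u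
    rw [← hu (σ⁻¹ i), ← hc']
    simp
  have hne' : ∃ i k, e'.1 i ≠ e'.1 k := by
    obtain ⟨i, k, h⟩ := hne
    exact ⟨σ i, σ k, by simpa [e'] using h⟩
  intro i
  have := level_of_cycles e' (hin _ (Subgroup.subset_closure (by simp))) (hin _ (Subgroup.subset_closure (by simp)))
    hne' (σ i)
  rw [← this, levelCount, levelCount]
  exact Finset.card_equiv σ fun k => by simp [e']

end Cfsg.Lib.SUSixU43
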