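import Cfsg.Agent.Lib.SUSixU43.QData
import Cfsg.Agent.Lib.SUSixU43.ModelData
import Cfsg.Agent.Lib.PermAut.MclPsuData
import Cfsg.Agent.Lib.PermAut.Basic

/-! Checks of the certificates in PSU(4,3). -/

set_option autoImplicit false
set_option maxRecDepth 100000

namespace Cfsg.Lib.SUSixU43

open Cfsg.Lib.PermAut

/-- The table of a line generator. -/
def lineGen (k : ℕ) : ℕ := bif Nat.beq k 0 then MclPsu.lineSub.g0 else MclPsu.lineSub.g1

/-- The table of a Schreier generator. -/
def sT (s : ℕ) : ℕ := (sTabs.getD s (0, 0)).1

/-- The table of a transversal element. -/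
def rT (i : ℕ) : ℕ := (rTabs.getD i (0, 0)).1

/-- The table of a generator of the radical. -/
def eT (k : ℕ) : ℕ := (eGens.getD k (0, 0)).1

/-- The table of an element of the radical. -/
def xT (a : ℕ) : ℕ := (eElts.getD a (0, 0)).1

/-- The first permutation table. -/
def gT (k : ℕ) : ℕ := bif Nat.beq k 0 then pXT.1 else pYT.1

/-- The exponent word of an element of the radical. -/
def expWord (a : ℕ) : List ℕ :=
  List.replicate (a / 27 % 3) (eT 0) ++ List.replicate (a / 9 % 3) (eT 1) ++ List.replicate (a / 3 % 3) (eT 2) ++
    List.replicate (a % 3) (eT 3)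

/-- The two permutations follow the lines. -/
noncomputable def lineB (k : ℕ) : Bool :=
  (List.range 112).all fun j => (lineSets.getD j []).all fun a =>
    Nat.blt a 280 && (lineSets.getD (ent 7 (gT k) j) []).any fun b => Nat.beq (ent 9 (lineGen k) a) b

/-- Distinct lines differ. -/
noncomputable def sepB : Bool :=
  (List.range 112).all fun i => (List.range 112).all fun j =>
    Nat.beq i j || (lineSets.getD i []).any fun a => !(lineSets.getD j []).any fun b => Nat.beq a b

/-- The tables are permutations. -/
noncomputable def tabsB : Bool :=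
  ((rTabs ++ sTabs ++ eGens ++ eElts ++ hData.map (fun h => h.2.2.2) ++ invData.map (fun h => h.2) ++
    rootCent.map fun h => h.2).all fun p => invPairOk 7 112 p.1 p.2) && Nat.beq rTabs.length 112 &&
    Nat.beq sTabs.length 224 && Nat.beq eGens.length 4 && Nat.beq eElts.length 81 && Nat.beq hData.length 6 &&
    Nat.beq invData.length 4 && Nat.beq rootCent.length 2

/-- The transversal. -/
noncomputable def transB : Bool :=
  sameB 7 112 [rT 0] [] && Nat.beq orbitTree.length 111 &&
    ((List.range 111).all fun t => Nat.ble (orbitTree.getD t (0, 0)).1 t && Nat.blt (orbitTree.getD t (0, 0)).2 2 &&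
      sameB 7 112 [rT (t + 1)] [gT (orbitTree.getD t (0, 0)).2, rT (orbitTree.getD t (0, 0)).1]) &&
    ((List.range 112).all fun i => Nat.beq (ent 7 (rT i) 0) i) &&
    ((List.range 224).all fun s => sameB 7 112 [rT (ent 7 (gT (s % 2)) (s / 2)), sT s] [gT (s % 2), rT (s / 2)])

/-- A word in the Schreier generators. -/
noncomputable def wordS (w : List ℕ) (T : ℕ) : Bool :=
  (w.all fun s => Nat.blt s 224) && sameB 7 112 [T] (w.map sT)

/-- The radical. -/
noncomputable def radB : Bool :=
  ((List.range 4).all fun k => wordS (eWords.getD k []) (eT k)) &&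
    ((List.range 81).all fun a => sameB 7 112 [xT a] (expWord a)) &&
    ((List.range 324).all fun n => Nat.blt (eNext.getD n 0) 81 &&
      sameB 7 112 [eT (n / 81), xT (n % 81)] [xT (eNext.getD n 0)]) &&
    ((List.range 81).all fun a => (List.range a).all fun b => !sameB 7 112 [xT a] [xT b])

/-- The Schreier generators normalise the radical. -/
noncomputable def normB : Bool :=
  (List.range 896).all fun n => Nat.blt (sImg.getD n 0) 81 &&
    sameB 7 112 [sT (n / 4), eT (n % 4)] [xT (sImg.getD n 0), sT (n / 4)]

/-- The inverting elements. -/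
noncomputable def invertB : Bool :=
  (hData.all fun h => Nat.blt h.1 4 && Nat.blt h.2.1 4 && wordS h.2.2.1 h.2.2.2.1 &&
      sameB 7 112 [h.2.2.2.1, eT h.1] [eT h.1, eT h.1, h.2.2.2.1] &&
      sameB 7 112 [h.2.2.2.1, eT h.2.1] [eT h.2.1, h.2.2.2.1]) &&
    ((List.range 4).all fun k => wordS (invData.getD k ([], 0, 0)).1 (invData.getD k ([], 0, 0)).2.1 &&
      sameB 7 112 [(invData.getD k ([], 0, 0)).2.1, eT k] [eT k, eT k, (invData.getD k ([], 0, 0)).2.1]) &&
    ((List.range 4).all fun i => (List.range 4).all fun j => Nat.beq i j ||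
      hData.any fun h => (Nat.beq h.1 i && Nat.beq h.2.1 j) || (Nat.beq h.1 j && Nat.beq h.2.1 i))

/-- The table of an element centralising the root element. -/
def cT (k : ℕ) : ℕ := (rootCent.getD k ([], 0, 0)).2.1

/-- The root element. -/
noncomputable def rootB : Bool :=
  Nat.blt rootIx 81 && !Nat.beq rootIx 0 &&
    ((List.range 2).all fun k => wordS (rootCent.getD k ([], 0, 0)).1 (cT k) &&
      sameB 7 112 [cT k, xT rootIx] [xT rootIx, cT k] && sameB 7 112 [cT k, cT k, cT k] []) &&
    sameB 7 112 [cT 0, cT 1] [cT 1, cT 0] &&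
    ((List.range 8).all fun n => (List.range 81).all fun a =>
      !sameB 7 112 (List.replicate ((n + 1) % 3) (cT 0) ++ List.replicate ((n + 1) / 3) (cT 1)) [xT a])

/-- The far radical meets the radical in the root group. -/
noncomputable def meetB : Bool :=
  Nat.blt farIx 112 && Nat.blt (meetIx.getD rootIx 81) 81 &&
    sameB 7 112 [xT rootIx, rT farIx] [rT farIx, xT (meetIx.getD rootIx 81)] &&
    (List.range 81).all fun a =>
      (Nat.beq a 0 || Nat.beq a rootIx || sameB 7 112 [xT a] [xT rootIx, xT rootIx]) ||
        (List.range 81).all fun m => !sameB 7 112 [xT a, rT farIx] [rT farIx, xT m]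

theorem line_sets : (lineB 0 && lineB 1) = true := by decide +kernel

theorem sep_ok : sepB = true := by decide +kernel

theorem tabs_ok : tabsB = true := by decide +kernel

theorem trans_ok : transB = true := by decide +kernel

theorem rad_ok : radB = true := by decide +kernel

theorem norm_ok : normB = true := by decide +kernel

theorem invert_ok : invertB = true := by decide +kernel

theorem root_ok : rootB = true := by decide +kernel

theorem meet_ok : meetB = true := by decide +kernel

end Cfsg.Lib.SUSixU43
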