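import Cfsg.Agent.Lib.SUSixU43.Frames
import Cfsg.Agent.Lib.SUSixU43.Pattern
import Cfsg.Agent.Lib.SUSixU43.QSide

/-! A triple cover of PSU(4,3) with the diagonal subgroup as its radical contains a model. -/

set_option autoImplicit false
set_option maxRecDepth 20000

namespace Cfsg.Lib.SUSixU43

open Cfsg Equiv

section Abstract

variable {G P : Type} [Group G] [Group P] {K : Subgroup G} (θ : ↥K →* P)

theorem central_of_ker (hker : θ.ker = Subgroup.center ↥K) {x : ↥K} (hx : θ x = 1) (y : ↥K) : x * y = y * x := by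
  have : x ∈ Subgroup.center ↥K := hker ▸ MonoidHom.mem_ker.2 hx
  exact (Subgroup.mem_center_iff.1 this y).symm

/-- Two elements whose commutator is central commute if a conjugation inverts one and fixes the other modulo the
centre, the centre having order three. -/
theorem commute_of_inverting (hker : θ.ker = Subgroup.center ↥K) (hc : Nat.card ↥(Subgroup.center ↥K) = 3)
    {x y h : ↥K} (hxy : θ x * θ y = θ y * θ x) (hx : θ h * θ x * (θ h)⁻¹ = θ x ^ 2)
    (hy : θ h * θ y * (θ h)⁻¹ = θ y) : Commute x y := by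
  set c := x * y * x⁻¹ * y⁻¹ with hc'
  have hcm : c ∈ Subgroup.center ↥K := by
    rw [← hker, MonoidHom.mem_ker, hc', map_mul, map_mul, map_mul, map_inv, map_inv, hxy]
    group
  have ha : (x ^ 2)⁻¹ * (h * x * h⁻¹) ∈ Subgroup.center ↥K := by
    rw [← hker, MonoidHom.mem_ker, map_mul, map_inv, map_pow, map_mul, map_mul, map_inv, hx, inv_mul_cancel]
  have hb : y⁻¹ * (h * y * h⁻¹) ∈ Subgroup.center ↥K := by
    rw [← hker, MonoidHom.mem_ker, map_mul, map_inv, map_mul, map_mul, map_inv, hy, inv_mul_cancel]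
  set a := (x ^ 2)⁻¹ * (h * x * h⁻¹) with hadef
  set b := y⁻¹ * (h * y * h⁻¹) with hbdef
  have ca : ∀ z, a * z = z * a := fun z => (Subgroup.mem_center_iff.1 ha z).symm
  have cb : ∀ z, b * z = z * b := fun z => (Subgroup.mem_center_iff.1 hb z).symm
  have cc : ∀ z, c * z = z * c := fun z => (Subgroup.mem_center_iff.1 hcm z).symm
  have ex : h * x * h⁻¹ = x ^ 2 * a := by rw [hadef, mul_inv_cancel_left]
  have ey : h * y * h⁻¹ = y * b := by rw [hbdef, mul_inv_cancel_left]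
  have hxy' : x * y = c * (y * x) := by rw [hc']; group
  have key : h * c * h⁻¹ = c * c := by
    have e : h * c * h⁻¹ = (h * x * h⁻¹) * (h * y * h⁻¹) * (h * x * h⁻¹)⁻¹ * (h * y * h⁻¹)⁻¹ := by rw [hc']; group
    rw [e, ex, ey]
    have h2 : x ^ 2 * y = c * c * (y * x ^ 2) := by
      calc x ^ 2 * y = x * (x * y) := by rw [sq, mul_assoc]
        _ = x * (c * (y * x)) := by rw [hxy']
        _ = c * (x * y) * x := by rw [← mul_assoc x c, ← cc x]; simp only [mul_assoc]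
        _ = c * (c * (y * x)) * x := by rw [hxy']
        _ = c * c * (y * x ^ 2) := by rw [sq]; simp only [mul_assoc]
    have e1 : x ^ 2 * a * (y * b) = x ^ 2 * y * (a * b) := by
      rw [mul_assoc, ← mul_assoc a, ca y, mul_assoc y, ← mul_assoc]
    have e2 : y * b * (x ^ 2 * a) = y * x ^ 2 * (a * b) := by
      rw [mul_assoc, ← mul_assoc b, cb (x ^ 2), mul_assoc (x ^ 2), cb a, ← mul_assoc]
    calc x ^ 2 * a * (y * b) * (x ^ 2 * a)⁻¹ * (y * b)⁻¹
        = x ^ 2 * a * (y * b) * (y * b * (x ^ 2 * a))⁻¹ := by group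
      _ = c * c := by rw [e1, e2, h2]; group
  rw [← cc h, mul_inv_cancel_right] at key
  have h1 : c = 1 := mul_left_cancel (a := c) (by rw [mul_one]; exact key.symm)
  show x * y = y * x
  rw [hxy', h1, one_mul]

theorem commute_lifts (hker : θ.ker = Subgroup.center ↥K) {S : Set P} (hS : S ⊆ θ.range) {y : ↥K}
    (h : ∀ z, θ z ∈ S → Commute z y) {x : ↥K} (hx : θ x ∈ Subgroup.closure S) : Commute x y := by
  have key : ∀ p ∈ Subgroup.closure S, ∀ z, θ z = p → Commute z y := by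
    intro p hp
    induction hp using Subgroup.closure_induction with
    | mem p hp => exact fun z hz => h z (hz ▸ hp)
    | one => exact fun z hz => central_of_ker θ hker hz y
    | mul p q hp hq ihp ihq =>
      intro z hz
      have hr : Subgroup.closure S ≤ θ.range := (Subgroup.closure_le _).2 hS
      obtain ⟨a, ha⟩ := hr hp
      have hb : θ (a⁻¹ * z) = q := by rw [map_mul, map_inv, ha, hz, inv_mul_cancel_left]
      have := (ihp a ha).mul_left (ihq _ hb)
      rwa [mul_inv_cancel_left] at this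
    | inv p _ ih =>
      intro z hz
      have := (ih z⁻¹ (by rw [map_inv, hz, inv_inv])).inv_left
      rwa [inv_inv] at this
  exact key _ hx x rfl

theorem card_comap_of_le_range {E : Subgroup P} (hE : E ≤ θ.range) :
    Nat.card ↥((E.comap θ).map K.subtype) = Nat.card ↥θ.ker * Nat.card ↥E := by
  rw [← Nat.card_congr ((E.comap θ).equivMapOfInjective _ K.subtype_injective).toEquiv]
  let f : ↥(E.comap θ) →* ↥E := (θ.comp (E.comap θ).subtype).codRestrict E fun g => g.2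
  have hsurj : Function.Surjective f := by
    rintro ⟨p, hp⟩
    obtain ⟨g, rfl⟩ := hE hp
    exact ⟨⟨g, hp⟩, rfl⟩
  have hk : Nat.card ↥f.ker = Nat.card ↥θ.ker := Nat.card_congr
    { toFun := fun g => ⟨g.1.1, congrArg Subtype.val (MonoidHom.mem_ker.1 g.2)⟩
      invFun := fun g => ⟨⟨g.1, by rw [Subgroup.mem_comap, MonoidHom.mem_ker.1 g.2]; exact one_mem _⟩,
        Subtype.ext (MonoidHom.mem_ker.1 g.2)⟩
      left_inv := fun _ => rfl
      right_inv := fun _ => rfl }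
  rw [← Subgroup.card_mul_index f.ker, Subgroup.index_ker, MonoidHom.range_eq_top.2 hsurj, Subgroup.card_top, hk]

theorem far_step {N : Subgroup G} (ψ : ↥N →* ℤˣ) (hev : ∀ n (hn : n ∈ N), ψ ⟨n, hn⟩ = 1 → n ∈ K) {g m f k : G}
    (hn : g ∈ N) (hs : ψ ⟨g, hn⟩ = 1) (hm : m ∈ K) (hk' : k ∈ K) (hk : (m * f)⁻¹ * k ∈ N) : f * g * f⁻¹ ∈ K := by
  have hu : ((m * f)⁻¹ * k)⁻¹ * g * ((m * f)⁻¹ * k) ∈ K := by
    refine hev _ (N.mul_mem (N.mul_mem (N.inv_mem hk) hn) hk) ?_
    rw [show (⟨_, N.mul_mem (N.mul_mem (N.inv_mem hk) hn) hk⟩ : ↥N) = (⟨_, hk⟩ : ↥N)⁻¹ * ⟨g, hn⟩ * ⟨_, hk⟩ from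
      Subtype.ext rfl, map_mul, map_mul, map_inv, hs, mul_one, inv_mul_cancel]
  have hkm := K.mul_mem (K.inv_mem hm) hk'
  have := K.mul_mem (K.mul_mem hkm hu) (K.inv_mem hkm)
  convert this using 1
  group

end Abstract

theorem E112_eq : E112 = Subgroup.closure {p | ∃ k < 4, p = tP (eT k)} := rfl

theorem eT_mem {k : ℕ} (hk : k < 4) : tP (eT k) ∈ E112 := Subgroup.subset_closure ⟨k, hk, rfl⟩

theorem eT_comm {i j : ℕ} (hi : i < 4) (hj : j < 4) : tP (eT i) * tP (eT j) = tP (eT j) * tP (eT i) := by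
  have h : ∀ i < 4, ∀ j < 4, PermAut.sameB 7 112 [eT i, eT j] [eT j, eT i] = true := by decide +kernel
  simpa [tP] using PermAut.eq_of_sameB (b := 7) (N := 112) (l := [eT i, eT j]) (l' := [eT j, eT i])
    (by simpa using ⟨rep_eT hi, rep_eT hj⟩) (by simpa using ⟨rep_eT hj, rep_eT hi⟩) (h i hi j hj)

variable {K : Subgroup G6} (θ : ↥K →* Perm (Fin 112))

/-- The preimage of the radical. -/
noncomputable def radK : Subgroup G6 := (E112.comap θ).map K.subtype

theorem radK_comm (hker : θ.ker = Subgroup.center ↥K) (hr : θ.range = Q112)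
    (hc : Nat.card ↥(Subgroup.center ↥K) = 3) : ∀ a ∈ radK θ, ∀ b ∈ radK θ, a * b = b * a := by
  have hS : {p | ∃ k < 4, p = tP (eT k)} ⊆ (θ.range : Set (Perm (Fin 112))) := by
    rintro p ⟨k, hk, rfl⟩
    rw [SetLike.mem_coe, hr]
    exact (E112_le_St (eT_mem hk)).1
  have gens : ∀ i < 4, ∀ j < 4, ∀ x y, θ x = tP (eT i) → θ y = tP (eT j) → Commute x y := by
    intro i hi j hj x y hx hy
    rcases eq_or_ne i j with rfl | hij
    · have hz : θ (x⁻¹ * y) = 1 := by rw [map_mul, map_inv, hx, hy, inv_mul_cancel]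
      have := (Commute.refl x).mul_right (show Commute x (x⁻¹ * y) from (central_of_ker θ hker hz x).symm)
      rwa [mul_inv_cancel_left] at this
    obtain ⟨a, b, hab, h, hh, h1, h2⟩ := exists_inverting hi hj hij
    obtain ⟨H, hH⟩ : h ∈ θ.range := hr ▸ hh.1
    rcases hab with ⟨rfl, rfl⟩ | ⟨rfl, rfl⟩
    · exact commute_of_inverting θ hker hc (h := H) (by rw [hx, hy]; exact eT_comm hi hj) (by rw [hH, hx]; exact h1)
        (by rw [hH, hy]; exact h2)
    · exact (commute_of_inverting θ hker hc (h := H) (by rw [hx, hy]; exact eT_comm hj hi)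
        (by rw [hH, hy]; exact h1) (by rw [hH, hx]; exact h2)).symm
  rintro _ ⟨a, ha, rfl⟩ _ ⟨b, hb, rfl⟩
  rw [SetLike.mem_coe, Subgroup.mem_comap, E112_eq] at ha hb
  have := commute_lifts θ hker hS (y := b) (fun z hz => by
    obtain ⟨i, hi, ei⟩ := hz
    exact (commute_lifts θ hker hS (y := z) (fun w hw => by
      obtain ⟨j, hj, ej⟩ := hw
      exact gens j hj i hi w z ej ei) hb).symm) ha
  exact congrArg Subtype.val this.eq

theorem card_radK (hker : θ.ker = Subgroup.center ↥K) (hr : θ.range = Q112)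
    (hc : Nat.card ↥(Subgroup.center ↥K) = 3) : Nat.card ↥(radK θ) = 243 := by
  rw [radK, card_comap_of_le_range θ (hr ▸ fun p hp => (E112_le_St hp).1), hker, hc, card_E112]

/-- The even permutations of the generators of the models. -/
def evenPerm (k : ℕ) : Perm (Fin 6) :=
  if k < 5 then 1 else if k = 5 then swap 0 1 * swap 1 2
  else if k = 6 then swap 0 1 * swap 1 2 * swap 2 3 * swap 3 4 else swap 1 2 * swap 2 3 * swap 3 4 * swap 4 5

theorem evenPerm_ok : ∀ c < 3, ∀ k < 8,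
    permB ((evenMats.getD c []).getD k 0) (evenPerm k) = true ∧ Perm.sign (evenPerm k) = 1 := by decide +kernel

theorem const_of_alt : ∀ e : Exp, (∀ i, e.1 (evenPerm 6 i) = e.1 i) → (∀ i, e.1 (evenPerm 7 i) = e.1 i) →
    ∀ i k, e.1 i = e.1 k := by decide +kernel

theorem triple_of_levels : ∀ e : Exp, (∀ i, levelCount e i = 3) →
    ∃ p < 10, ∀ i k : Fin 6, (blockOf p i = blockOf p k ↔ e.1 i = e.1 k) := by decide +kernel

theorem dT_const_mem {e : Exp} (h : ∀ i k, e.1 i = e.1 k) : dT e ∈ C6 :=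
  mem_C6_iff.2 ⟨e.1 0, by rw [mm_dT]; exact congrArg Matrix.diagonal (funext fun i => by rw [h i 0])⟩

theorem exp_const_of_C6 {e : Exp} (h : dT e ∈ C6) : ∀ i k, e.1 i = e.1 k := by
  obtain ⟨a, ha⟩ := mem_C6_iff.1 h
  rw [mm_dT] at ha
  intro i k
  have hi := congrFun (Matrix.diagonal_injective ha) i
  have hk := congrFun (Matrix.diagonal_injective ha) k
  exact elE_facts.2.2.2.1 _ _ (hi.trans hk.symm)

theorem mem_radK {x : ↥K} : (x : G6) ∈ radK θ ↔ θ x ∈ E112 := by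
  constructor
  · rintro ⟨y, hy, e⟩
    rwa [← Subtype.ext e]
  · exact fun h => ⟨x, h, rfl⟩

theorem T6_le_K (hT : radK θ = T6) : T6 ≤ K := by
  rw [← hT]
  rintro _ ⟨y, -, rfl⟩
  exact y.2

theorem St_mono (hT : radK θ = T6) {x : ↥K} (hx : θ x ∈ St) : (x : G6) ∈ N6 := by
  refine mono_of_normal fun t ht => ?_
  rw [← hT] at ht ⊢
  obtain ⟨y, hy, rfl⟩ := ht
  refine ⟨x⁻¹ * y * x, ?_, rfl⟩
  rw [SetLike.mem_coe, Subgroup.mem_comap, map_mul, map_mul, map_inv]
  have := St_normal (St.inv_mem hx) hy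
  rwa [inv_inv] at this

theorem perms_of_St (hker : θ.ker = Subgroup.center ↥K) (hr : θ.range = Q112)
    (hc : Nat.card ↥(Subgroup.center ↥K) = 3) (hT : radK θ = T6) {p : Perm (Fin 6)}
    (hp : p ∈ alternatingGroup (Fin 6)) :
    ∃ x : ↥K, ∃ hx : θ x ∈ St, perN ⟨x, St_mono θ hT hx⟩ = p := by
  let A : Subgroup ↥K := St.comap θ
  let f : ↥A →* Perm (Fin 6) :=
    MonoidHom.mk' (fun x => perN ⟨(x.1 : G6), St_mono θ hT x.2⟩) fun x y => by
      rw [← map_mul]; rfl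
  have hA : Nat.card ↥A = 87480 := by
    have := card_comap_of_le_range θ (E := St) (hr ▸ fun q hq => hq.1)
    rw [← Nat.card_congr ((St.comap θ).equivMapOfInjective _ K.subtype_injective).toEquiv, hker, hc, card_St] at this
    exact this
  haveI := finite_G6
  have hk : Nat.card ↥f.ker ≤ 243 := by
    rw [← card_T6]
    refine Nat.card_le_card_of_injective
      (fun x => (⟨(x.1.1 : G6), ⟨⟨_, St_mono θ hT x.1.2⟩, MonoidHom.mem_ker.1 x.2, rfl⟩⟩ : ↥T6)) fun a b h => ?_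
    exact Subtype.ext (Subtype.ext (Subtype.ext (congrArg (fun t : ↥T6 => (t : G6)) h)))
  have hm := f.ker.card_mul_index
  rw [Subgroup.index_ker, hA] at hm
  have h360 : 360 ≤ Nat.card ↥f.range := by
    by_contra hlt
    have := Nat.mul_le_mul hk (show Nat.card ↥f.range ≤ 359 by omega)
    omega
  obtain ⟨x, hx⟩ := alternating_le h360 hp
  exact ⟨x.1, x.2, hx⟩

theorem center_le_C6 (hker : θ.ker = Subgroup.center ↥K) (hr : θ.range = Q112)
    (hc : Nat.card ↥(Subgroup.center ↥K) = 3) (hT : radK θ = T6) {z : ↥K} (hz : θ z = 1) : (z : G6) ∈ C6 := by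
  have hzT : (z : G6) ∈ T6 := hT ▸ (mem_radK θ).2 (hz.symm ▸ E112.one_mem)
  obtain ⟨e, he⟩ := mem_T6_iff.1 hzT
  have key : ∀ k, k = 6 ∨ k = 7 → ∀ i, e.1 (evenPerm k i) = e.1 i := by
    intro k hk i
    have hs : Perm.sign (evenPerm k) = 1 := (evenPerm_ok 0 (by norm_num) k (by omega)).2
    obtain ⟨x, hx, hxp⟩ := perms_of_St θ hker hr hc hT (Perm.mem_alternatingGroup.2 hs)
    have hcomm : (x : G6) * (z : G6) * (x : G6)⁻¹ = (z : G6) := by
      have := congrArg Subtype.val (central_of_ker θ hker hz x)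
      simp only [Subgroup.coe_mul] at this
      rw [← this, mul_inv_cancel_right]
    rw [← he, show ((x : G6)) = ((⟨x, St_mono θ hT hx⟩ : ↥N6) : G6) from rfl, conj_dT] at hcomm
    have := congrFun (congrArg Subtype.val (dT_inj hcomm)) (evenPerm k i)
    simpa [hxp] using this.symm
  rw [← he]
  exact dT_const_mem (const_of_alt e (key 6 (Or.inl rfl)) (key 7 (Or.inr rfl)))

theorem C6_le (hker : θ.ker = Subgroup.center ↥K) (hr : θ.range = Q112)
    (hc : Nat.card ↥(Subgroup.center ↥K) = 3) (hT : radK θ = T6) :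
    (Subgroup.center ↥K).map K.subtype = C6 := by
  haveI := finite_G6
  refine Subgroup.eq_of_le_of_card_ge ?_ ?_
  · rintro _ ⟨z, hz, rfl⟩
    exact center_le_C6 θ hker hr hc hT (MonoidHom.mem_ker.1 (hker.symm ▸ hz : z ∈ θ.ker))
  · rw [card_C6, Subgroup.card_map_of_injective K.subtype_injective, hc]

theorem even_mem (hker : θ.ker = Subgroup.center ↥K) (hr : θ.range = Q112)
    (hc : Nat.card ↥(Subgroup.center ↥K) = 3) (hT : radK θ = T6) {n : G6} (hn : n ∈ N6)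
    (hs : Perm.sign (perN ⟨n, hn⟩) = 1) : n ∈ K := by
  obtain ⟨x, hx, hxp⟩ := perms_of_St θ hker hr hc hT (Perm.mem_alternatingGroup.2 hs)
  have hk : (⟨x, St_mono θ hT hx⟩ : ↥N6)⁻¹ * ⟨n, hn⟩ ∈ perN.ker := by
    rw [MonoidHom.mem_ker, map_mul, map_inv, hxp, inv_mul_cancel]
  have ht : (x : G6)⁻¹ * n ∈ T6 := ⟨_, hk, rfl⟩
  have := K.mul_mem x.2 (T6_le_K θ hT ht)
  rwa [mul_inv_cancel_left] at this

theorem evenG_perN {c k : ℕ} (hc : c < 3) (hk : k < 8) :
    ∃ hn : evenG c k ∈ N6, perN ⟨evenG c k, hn⟩ = evenPerm k :=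
  perN_of_permB (mm_evenG hc hk) (evenPerm_ok c hc k hk).1

theorem exists_far_lift (hker : θ.ker = Subgroup.center ↥K) (hr : θ.range = Q112)
    (hc : Nat.card ↥(Subgroup.center ↥K) = 3) (hT : radK θ = T6) :
    ∃ j < 90, ∃ k : ↥K, (candG j)⁻¹ * (k : G6) ∈ N6 := by
  obtain ⟨kq, hkq, hroot, honly⟩ := exists_far
  obtain ⟨k, hk⟩ : kq ∈ θ.range := hr ▸ hkq
  obtain ⟨r, hr'⟩ : root ∈ θ.range := hr ▸ (E112_le_St root_mem).1
  obtain ⟨d, hd⟩ := mem_T6_iff.1 (hT ▸ (mem_radK θ).2 (hr'.symm ▸ root_mem) : (r : G6) ∈ T6)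
  have hC : ∀ z : ↥K, θ z = 1 → ∃ e : Exp, dT e = (z : G6) ∧ ∀ i l, e.1 i = e.1 l := fun z hz => by
    have h := center_le_C6 θ hker hr hc hT hz
    obtain ⟨e, he⟩ := mem_T6_iff.1 (hT ▸ (mem_radK θ).2 (hz.symm ▸ E112.one_mem) : (z : G6) ∈ T6)
    exact ⟨e, he, exp_const_of_C6 (he ▸ h)⟩
  have hne : ∃ i l, d.1 i ≠ d.1 l := by
    by_contra! h
    have hz : (r : G6) ∈ C6 := hd ▸ dT_const_mem h
    rw [← C6_le θ hker hr hc hT] at hz
    obtain ⟨z, hz', e⟩ := hz
    have : θ r = 1 := MonoidHom.mem_ker.1 (hker.symm ▸ (Subtype.ext e ▸ hz') : r ∈ θ.ker)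
    exact root_ne (hr'.symm.trans this)
  obtain ⟨c₁, c₂, hs₁, hs₂, hr₁, hr₂, h3₁, h3₂, h12, hind⟩ := root_centralizers
  obtain ⟨R₁, hR₁⟩ : c₁ ∈ θ.range := hr ▸ hs₁.1
  obtain ⟨R₂, hR₂⟩ : c₂ ∈ θ.range := hr ▸ hs₂.1
  have m₁ : θ R₁ ∈ St := hR₁ ▸ hs₁
  have m₂ : θ R₂ ∈ St := hR₂ ▸ hs₂
  set n₁ : ↥N6 := ⟨R₁, St_mono θ hT m₁⟩ with hn₁
  set n₂ : ↥N6 := ⟨R₂, St_mono θ hT m₂⟩ with hn₂
  have hker1 : ∀ {z : ↥K} {n : ↥N6}, (n : G6) = (z : G6) → θ z = 1 → perN n = 1 := by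
    intro z n e hz
    obtain ⟨m, hm, em⟩ := (hT ▸ (mem_radK θ).2 (hz.symm ▸ E112.one_mem) : (z : G6) ∈ T6)
    rw [Subtype.ext (e.trans em.symm) (a1 := n) (a2 := m)]
    exact MonoidHom.mem_ker.1 hm
  have hshift : ∀ (R : ↥K) (n : ↥N6), (n : G6) = (R : G6) → θ R * root = root * θ R → perN n ∈ shiftStab d := by
    intro R n e hcm
    obtain ⟨z, hze, hzc⟩ := hC (R * r * R⁻¹ * r⁻¹) (by
      rw [map_mul, map_mul, map_mul, map_inv, map_inv, hr', hcm]; group)
    have hconj : (R : G6) * dT d * (R : G6)⁻¹ = dT z * dT d := by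
      rw [hze, hd]
      simp only [Subgroup.coe_mul, Subgroup.coe_inv]
      group
    rw [← e, conj_dT, dT_mul] at hconj
    refine ⟨-(z.1 0), fun i => ?_⟩
    have h := congrFun (congrArg Subtype.val (dT_inj hconj)) (perN n i)
    simp only [Function.comp_apply, Perm.coe_inv, Equiv.symm_apply_apply, Pi.add_apply] at h
    rw [h, hzc (perN n i) 0]
    abel
  have hp3 : ∀ (R : ↥K) (n : ↥N6), (n : G6) = (R : G6) → θ R ^ 3 = 1 → perN n ^ 3 = 1 := fun R n e h3 => by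
    rw [← map_pow]
    exact hker1 (z := R ^ 3) (by rw [SubgroupClass.coe_pow, e, SubgroupClass.coe_pow]) (by rw [map_pow, h3])
  have hpq : perN n₁ * perN n₂ = perN n₂ * perN n₁ := by
    have h1 := hker1 (z := R₁ * R₂ * R₁⁻¹ * R₂⁻¹) (n := n₁ * n₂ * n₁⁻¹ * n₂⁻¹) (by simp [hn₁, hn₂])
      (by rw [map_mul, map_mul, map_mul, map_inv, map_inv, hR₁, hR₂, h12]; group)
    rw [map_mul, map_mul, map_mul, map_inv, map_inv, mul_inv_eq_one, mul_inv_eq_iff_eq_mul] at h1
    exact h1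
  have hlev := level_of_nine (e := d) (hshift R₁ n₁ rfl (hR₁ ▸ hr₁)) (hshift R₂ n₂ rfl (hR₂ ▸ hr₂))
    (hp3 R₁ n₁ rfl (hR₁ ▸ h3₁)) (hp3 R₂ n₂ rfl (hR₂ ▸ h3₂)) hpq (fun a ha b hb hab => hind a ha b hb (by
      rw [← map_pow, ← map_pow, ← map_mul] at hab
      have ht : ((R₁ ^ a * R₂ ^ b : ↥K) : G6) ∈ T6 := ⟨n₁ ^ a * n₂ ^ b, hab, by simp [hn₁, hn₂]⟩
      rw [← hT] at ht
      have := (mem_radK θ).1 ht
      rwa [map_mul, map_pow, map_pow, hR₁, hR₂] at this)) hne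
  obtain ⟨p, hp, hblk⟩ := triple_of_levels d hlev
  have hdT : (k : G6)⁻¹ * dT d * (k : G6) ∈ T6 := by
    have := (mem_radK θ).2 (show θ (k⁻¹ * r * k) ∈ E112 by rw [map_mul, map_mul, map_inv, hk, hr']; exact hroot)
    rw [hT] at this
    simpa [hd] using this
  rcases frame_cases hp (fun i l hb e => hb ((hblk i l).2 e)) hdT with ⟨t, ht, i, l, hb, hne'⟩ | ⟨j, hj, hjN⟩
  · exfalso
    have htE : ∃ x : ↥K, (x : G6) = dT t ∧ θ x ∈ E112 := by
      have := dT_mem t
      rw [← hT] at this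
      obtain ⟨x, hx, e⟩ := this
      exact ⟨x, e, hx⟩
    obtain ⟨x, hxe, hxE⟩ := htE
    have h2 : (kq⁻¹ * θ x * kq) ∈ E112 := by
      have h3 : ((k⁻¹ * x * k : ↥K) : G6) ∈ radK θ := by rw [hT]; simpa [hxe] using ht
      have := (mem_radK θ).1 h3
      rwa [map_mul, map_mul, map_inv, hk] at this
    -- the element is a power of the lift of the root element up to a scalar
    have hpow : ∃ n : ℕ, θ (x * (r ^ n)⁻¹) = 1 := by
      rcases honly _ hxE h2 with h | h | h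
      · exact ⟨0, by simp [h]⟩
      · exact ⟨1, by simp [h, hr']⟩
      · exact ⟨2, by simp [h, hr']⟩
    obtain ⟨n, hn⟩ := hpow
    obtain ⟨z, hze, hzc⟩ := hC _ hn
    have hmm := congrArg mm (show dT t = dT z * dT d ^ n by
      rw [hze, hd, ← hxe]; simp only [Subgroup.coe_mul, Subgroup.coe_inv, SubgroupClass.coe_pow]; group)
    rw [map_mul, map_pow, mm_dT, mm_dT, mm_dT, Matrix.diagonal_pow, Matrix.diagonal_mul_diagonal] at hmm
    have hdi := congrFun (Matrix.diagonal_injective hmm) i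
    have hdl := congrFun (Matrix.diagonal_injective hmm) l
    refine hne' (elE_facts.2.2.2.1 _ _ ?_)
    rw [hdi, hdl]
    simp [hzc i l, (hblk i l).1 hb]
  · exact ⟨j, hj, k, hjN⟩

end Cfsg.Lib.SUSixU43
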