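import Cfsg.Agent.Lib.SUSixU43.Unique

/-! A triple cover with diagonal radical contains a model. -/

set_option autoImplicit false
set_option maxRecDepth 20000

namespace Cfsg.Lib.SUSixU43

open Cfsg Equiv

attribute [local irreducible] farG evenG N6 KM Zc perN

theorem far_step_sub {M : Type} [Group M] {S : Subgroup M} {K N : Subgroup ↥S} (ψ : ↥N →* ℤˣ)
    (hev : ∀ n (hn : n ∈ N), ψ ⟨n, hn⟩ = 1 → n ∈ K) {g m f k : ↥S}
    (hn : g ∈ N) (hs : ψ ⟨g, hn⟩ = 1) (hm : m ∈ K) (hk' : k ∈ K) (hk : (m * f)⁻¹ * k ∈ N) : f * g * f⁻¹ ∈ K :=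
  far_step ψ hev hn hs hm hk' hk

theorem far_G6 {K : Subgroup G6} (ψ : ↥N6 →* ℤˣ)
    (hev : ∀ n (hn : n ∈ N6), ψ ⟨n, hn⟩ = 1 → n ∈ K) {g m f k : G6}
    (hn : g ∈ N6) (hs : ψ ⟨g, hn⟩ = 1) (hm : m ∈ K) (hk' : k ∈ K) (hk : (m * f)⁻¹ * k ∈ N6) : f * g * f⁻¹ ∈ K :=
  far_step_sub (S := SU 6 R4 2) ψ hev hn hs hm hk' hk

variable {K : Subgroup G6} (θ : ↥K →* Perm (Fin 112))


theorem model_le_of_word (hker : θ.ker = Subgroup.center ↥K) (hr : θ.range = Q112)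
    (hc : Nat.card ↥(Subgroup.center ↥K) = 3) (hT : radK θ = T6) {c : ℕ} (hcw : c < 3) {w : List ℕ}
    (hw : ∀ i ∈ w, i < 16) {k : G6} (hkK : k ∈ K) (hk : ((w.map (evenLet c)).prod * farG c)⁻¹ * k ∈ N6) :
    KM c ≤ K := by
  have hsign : ∀ i < 8, ∀ hn : evenG c i ∈ N6, Perm.sign (perN ⟨evenG c i, hn⟩) = 1 := fun i hi hn => by
    obtain ⟨hn', e⟩ := evenG_perN (c := c) hcw hi
    have hp : hn' = hn := Subsingleton.elim _ _
    subst hp
    exact (congrArg Perm.sign e).trans (evenPerm_ok c hcw i hi).2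
  have hev : ∀ i < 8, evenG c i ∈ K := fun i hi =>
    even_mem θ hker hr hc hT (evenG_perN hcw hi).1 (hsign i hi _)
  have hm : (w.map (evenLet c)).prod ∈ K := by
    refine Subgroup.list_prod_mem _ fun x hx => ?_
    obtain ⟨i, hi, rfl⟩ := List.mem_map.1 hx
    have h16 := hw i hi
    unfold evenLet
    split_ifs with h8
    · exact hev i h8
    · exact K.inv_mem (hev _ (by omega))
  generalize (w.map (evenLet c)).prod = m at hm hk
  refine KM_le hcw ?_ fun i hi => ⟨hev i hi, ?_⟩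
  · have h : Zc ∈ (Subgroup.center ↥K).map K.subtype := by
      rw [C6_le θ hker hr hc hT]
      exact Subgroup.mem_zpowers _
    obtain ⟨z, -, e⟩ := h
    rw [← e]
    exact z.2
  · have hn := (evenG_perN hcw hi).1
    have hs : (Perm.sign.comp perN) ⟨evenG c i, hn⟩ = 1 := (MonoidHom.comp_apply _ _ _).trans (hsign i hi hn)
    have hh : ∀ n (hn : n ∈ N6), (Perm.sign.comp perN) ⟨n, hn⟩ = 1 → n ∈ K := fun n hn h =>
      even_mem θ hker hr hc hT hn ((MonoidHom.comp_apply _ _ _).symm.trans h)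
    exact far_G6 (Perm.sign.comp perN) hh hn hs hm hkK hk

theorem exists_model_le (hker : θ.ker = Subgroup.center ↥K) (hr : θ.range = Q112)
    (hc : Nat.card ↥(Subgroup.center ↥K) = 3) (hT : radK θ = T6) : ∃ c < 3, KM c ≤ K := by
  obtain ⟨j, hj, k, hk⟩ := exists_far_lift θ hker hr hc hT
  obtain ⟨hcw, hw⟩ := cand_bounds hj
  rw [candG] at hk
  exact ⟨_, hcw, model_le_of_word θ hker hr hc hT hcw hw k.2 hk⟩

end Cfsg.Lib.SUSixU43
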